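import Cfsg.Agent.Lib.Spor.OneBlock.Norms
import Mathlib.GroupTheory.SchurZassenhaus
import Mathlib.GroupTheory.NoncommCoprod

/-!
# Norms of a character over the elements of order divisible by `p`

For a Sylow subgroup `P` of prime order `p` and a character of degree prime to `p`, the squared norms
over the elements of `C(P)` of order divisible by `p` add up to at least `|C(P)| (p - 1) / p`.
-/

open Finset
open scoped ComplexConjugate

namespace CfsgLib.Spor.OneBlock

open Cfsg

universe u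

/-- A character of a product with a factor of order `p`, of degree prime to `p`. -/
theorem norm_prod_le {P K : Type u} [Group P] [Fintype P] [Group K] [Fintype K] [DecidableEq P] {p : ℕ}
    [hp : Fact p.Prime] (hP : Nat.card P = p) {φ : P × K → ℂ} (hφ : IsCharacter (P × K) φ) {d : ℕ}
    (hd : φ 1 = d) (hpd : ¬ p ∣ d) :
    (Nat.card K : ℝ) * ((p : ℝ) - 1) ≤ ∑ x ∈ univ.erase (1 : P), ∑ y : K, ‖φ (x, y)‖ ^ 2 := by
  classical
  have := Fintype.ofFinite (IrrCharacter K)
  have := Fintype.ofFinite (IrrCharacter P)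
  let F : IrrCharacter K → P → ℂ := fun μ x => classInner (fun y => φ (x, y)) (μ : K → ℂ)
  have hfib : ∀ x, IsClassFunction K (fun y => φ (x, y)) := fun x g h => by
    have hh := Char.isClassFunction_of_isCharacter hφ (x, g) (1, h)
    simpa using hh
  have hcl : ∀ μ, IsClassFunction P (F μ) := fun μ g h => by
    show classInner _ _ = classInner _ _
    have hh : ∀ y, φ (h * g * h⁻¹, y) = φ (g, y) := fun y => by
      have hh := Char.isClassFunction_of_isCharacter hφ (g, y) (h, 1)
      simpa using hh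
    simp only [hh]
  have hcoef : ∀ μ (ψ : IrrCharacter P), ∃ m : ℕ, classInner (F μ) (ψ : P → ℂ) = m := by
    intro μ ψ
    obtain ⟨m, hm⟩ := Char.classInner_isCharacter hφ (Char.isCharacter_mul
      (Char.isCharacter_comp (Char.isCharacter_irr ψ) (MonoidHom.fst P K))
      (Char.isCharacter_comp (Char.isCharacter_irr μ) (MonoidHom.snd P K)))
    refine ⟨m, hm ▸ ?_⟩
    simp only [F, classInner, Function.comp_apply, Pi.mul_apply, MonoidHom.coe_fst, MonoidHom.coe_snd,
      map_mul, Fintype.sum_prod_type, Nat.card_prod, Nat.cast_mul, mul_inv, Finset.mul_sum,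
      Finset.sum_mul]
    refine Finset.sum_congr rfl fun x _ => Finset.sum_congr rfl fun y _ => by ring
  choose m hm using hcoef
  have hchar : ∀ μ, IsCharacter P (F μ) := fun μ => by
    rw [show F μ = ∑ ψ : IrrCharacter P, (m μ ψ : ℂ) • (ψ : P → ℂ) by
      conv_lhs => rw [Char.classFun_expand (hcl μ)]
      simp only [hm]]
    exact Char.isCharacter_sum _ _ fun ψ _ => by
      simpa [Nat.cast_smul_eq_nsmul] using Char.isCharacter_natSmul (Char.isCharacter_irr ψ) (m μ ψ)
  choose dμ hdμ using fun μ => Char.isCharacter_degree (hchar μ)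
  obtain ⟨μ₀, hμ₀⟩ : ∃ μ, ¬ p ∣ dμ μ := by
    by_contra hcon
    push Not at hcon
    choose eμ heμ using fun μ : IrrCharacter K => Char.isCharacter_degree (Char.isCharacter_irr μ)
    have h := congrFun (Char.classFun_expand (hfib 1)) 1
    simp only [Finset.sum_apply, Pi.smul_apply, smul_eq_mul] at h
    have h' : (d : ℂ) = ((∑ μ, dμ μ * eμ μ : ℕ) : ℂ) := by
      rw [← hd, show (1 : P × K) = ((1 : P), (1 : K)) from rfl, h]
      push_cast
      exact Finset.sum_congr rfl fun μ _ => by rw [heμ, ← hdμ]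
    exact hpd (Nat.cast_injective h' ▸ Finset.dvd_sum fun μ _ => (hcon μ).mul_right _)
  have hlow : (p : ℝ) - 1 ≤ ∑ x ∈ univ.erase (1 : P), ‖F μ₀ x‖ ^ 2 := by
    have h := norm_cyclic hP (hchar μ₀) (hdμ μ₀) (dμ μ₀ / p)
    rw [← Finset.add_sum_erase _ _ (Finset.mem_univ (1 : P)), hdμ, Complex.norm_natCast] at h
    set q := dμ μ₀ / p
    set r := dμ μ₀ % p with hr
    have hdec : (dμ μ₀ : ℝ) = p * q + r := by exact_mod_cast (Nat.div_add_mod (dμ μ₀) p).symm
    have hr1 : (1 : ℝ) ≤ r := by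
      exact_mod_cast Nat.one_le_iff_ne_zero.2 fun h0 => hμ₀ (Nat.dvd_of_mod_eq_zero h0)
    have hr2 : (r : ℝ) + 1 ≤ p := by exact_mod_cast Nat.mod_lt _ hp.out.pos
    push_cast at h
    rw [hdec] at h
    nlinarith [mul_nonneg (sub_nonneg.2 hr1) (sub_nonneg.2 hr2)]
  have hpars : ∀ x, ∑ y : K, ‖φ (x, y)‖ ^ 2 = (Nat.card K : ℝ) * ∑ μ, ‖F μ x‖ ^ 2 := by
    intro x
    have h1 := Char.classInner_self (fun y => φ (x, y))
    rw [Char.classInner_expand (hfib x)] at h1
    simp only [Complex.mul_conj'] at h1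
    have h2 : ((∑ μ, ‖F μ x‖ ^ 2 : ℝ) : ℂ) =
        ((Nat.card K : ℝ)⁻¹ * ∑ y : K, ‖φ (x, y)‖ ^ 2 : ℝ) := by
      rw [← h1]; push_cast; rfl
    rw [Complex.ofReal_injective h2, ← mul_assoc,
      mul_inv_cancel₀ (by exact_mod_cast Nat.card_pos.ne'), one_mul]
  simp only [hpars, ← Finset.mul_sum]
  refine mul_le_mul_of_nonneg_left (hlow.trans (Finset.sum_le_sum fun x _ => ?_)) (Nat.cast_nonneg _)
  exact Finset.single_le_sum (f := fun μ => ‖F μ x‖ ^ 2) (fun μ _ => sq_nonneg _) (Finset.mem_univ μ₀)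

variable {G : Type u} [Group G] [Fintype G] [DecidableEq G]

/-- The elements of order divisible by `p` centralizing a Sylow subgroup. -/
noncomputable def singPart (p : ℕ) (P : Sylow p G) : Finset G :=
  open Classical in univ.filter fun g => g ∈ Subgroup.centralizer ((P : Subgroup G) : Set G) ∧ p ∣ orderOf g

variable {p : ℕ} [hp : Fact p.Prime]

theorem card_sylow_prime (hp1 : p ∣ Nat.card G) (hp2 : ¬ p ^ 2 ∣ Nat.card G) (P : Sylow p G) :
    Nat.card (P : Subgroup G) = p := by
  rw [P.card_eq_multiplicity]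
  have h1 : 1 ≤ (Nat.card G).factorization p :=
    (hp.out.dvd_iff_one_le_factorization Nat.card_pos.ne').1 hp1
  have h2 : ¬ 2 ≤ (Nat.card G).factorization p := fun h =>
    hp2 ((hp.out.pow_dvd_iff_le_factorization Nat.card_pos.ne').2 h)
  rw [show (Nat.card G).factorization p = 1 by omega, pow_one]

theorem exists_pcompl (hp1 : p ∣ Nat.card G) (hp2 : ¬ p ^ 2 ∣ Nat.card G) (P : Sylow p G) :
    ∃ K : Subgroup G, K ≤ Subgroup.centralizer ((P : Subgroup G) : Set G) ∧
      Nat.card (Subgroup.centralizer ((P : Subgroup G) : Set G)) = p * Nat.card K ∧ ¬ p ∣ Nat.card K ∧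
      ∀ g ∈ Subgroup.centralizer ((P : Subgroup G) : Set G), ∃ x ∈ (P : Subgroup G), ∃ y ∈ K, g = x * y := by
  set C := Subgroup.centralizer ((P : Subgroup G) : Set G) with hC
  have hPc := card_sylow_prime hp1 hp2 P
  haveI : IsCyclic (P : Subgroup G) := isCyclic_of_prime_card hPc
  have hPC : (P : Subgroup G) ≤ C := fun a ha => Subgroup.mem_centralizer_iff.2 fun b hb =>
    congrArg Subtype.val ((IsCyclic.commGroup (α := (P : Subgroup G))).mul_comm ⟨b, hb⟩ ⟨a, ha⟩)
  set N := (P : Subgroup G).subgroupOf C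
  haveI : N.Normal := ⟨fun n hn g => by
    rw [Subgroup.mem_subgroupOf] at hn ⊢
    have := Subgroup.mem_centralizer_iff.1 g.2 _ hn
    rw [Subgroup.coe_mul, Subgroup.coe_mul, ← this, Subgroup.coe_inv, mul_inv_cancel_right]
    exact hn⟩
  have hN : Nat.card N = p := (Nat.card_congr (Subgroup.subgroupOfEquivOfLe hPC).toEquiv).trans hPc
  have hco : (Nat.card N).Coprime N.index := by
    rw [hN, hp.out.coprime_iff_not_dvd]
    intro h
    apply hp2
    have h2 : p * p ∣ Nat.card C := by
      rw [← N.card_mul_index, hN]; exact mul_dvd_mul_left p h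
    exact (pow_two p).symm ▸ h2.trans (Subgroup.card_subgroup_dvd_card C)
  obtain ⟨K, hK⟩ := Subgroup.exists_right_complement'_of_coprime hco
  have hcard : Nat.card (K.map C.subtype) = Nat.card K :=
    Subgroup.card_map_of_injective C.subtype_injective
  refine ⟨K.map C.subtype, ?_, ?_, ?_, ?_⟩
  · rintro _ ⟨k, -, rfl⟩; exact k.2
  · rw [hcard, ← hK.card_mul, hN]
  · rw [hcard, ← hK.symm.index_eq_card, ← hp.out.coprime_iff_not_dvd]
    exact hN ▸ hco
  · intro g hg
    obtain ⟨⟨x, y⟩, hxy⟩ := hK.2 ⟨g, hg⟩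
    exact ⟨(x : C), x.2, (y : C), ⟨y, y.2, rfl⟩, (congrArg Subtype.val hxy).symm⟩

/-- The squared norms over the part of `C(P)` of order divisible by `p`. -/
theorem norm_singPart_le (χ : IrrCharacter G) {d : ℕ} (hd : (χ : G → ℂ) 1 = d) (hpd : ¬ p ∣ d)
    (hp1 : p ∣ Nat.card G) (hp2 : ¬ p ^ 2 ∣ Nat.card G) (P : Sylow p G) :
    (Nat.card (Subgroup.centralizer ((P : Subgroup G) : Set G)) : ℝ) / p * ((p : ℝ) - 1) ≤
      ∑ g ∈ singPart p P, ‖(χ : G → ℂ) g‖ ^ 2 := by
  classical
  obtain ⟨K, hKC, hcard, hpK, hdec⟩ := exists_pcompl hp1 hp2 P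
  have hPc := card_sylow_prime hp1 hp2 P
  let π : ↥(P : Subgroup G) × ↥K →* G := MonoidHom.noncommCoprod (P : Subgroup G).subtype K.subtype
    fun x y => Subgroup.mem_centralizer_iff.1 (hKC y.2) x x.2
  have hπ : ∀ a : ↥(P : Subgroup G) × ↥K, π a = (a.1 : G) * (a.2 : G) := fun a => rfl
  have hinj : Function.Injective π := by
    rw [injective_iff_map_eq_one]
    rintro ⟨x, y⟩ h
    rw [hπ] at h
    have hxy : (y : G) = (x : G)⁻¹ := eq_inv_of_mul_eq_one_right h
    have hy1 : (y : G) = 1 := by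
      rw [← orderOf_eq_one_iff]
      refine Nat.eq_one_of_dvd_coprimes (hp.out.coprime_iff_not_dvd.2 hpK) ?_ ?_
      · have hm : (y : G) ∈ (P : Subgroup G) := hxy ▸ inv_mem x.2
        exact hPc ▸ Subgroup.orderOf_dvd_natCard _ hm
      · exact Subgroup.orderOf_dvd_natCard _ y.2
    refine Prod.ext (Subtype.ext ?_) (Subtype.ext hy1)
    show (x : G) = 1
    rwa [hy1, mul_one] at h
  have h := norm_prod_le hPc (Char.isCharacter_comp (Char.isCharacter_irr χ) π)
    (d := d) (by simpa using hd) hpd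
  rw [hcard, Nat.cast_mul, mul_div_cancel_left₀ _ (by exact_mod_cast hp.out.ne_zero)]
  refine h.trans ?_
  show ∑ x ∈ univ.erase 1, ∑ y, ‖(χ : G → ℂ) (π (x, y))‖ ^ 2 ≤ _
  rw [← Finset.sum_product', ← Finset.sum_image (s := (univ.erase 1) ×ˢ univ) (g := π)
    (f := fun g => ‖(χ : G → ℂ) g‖ ^ 2) hinj.injOn]
  refine Finset.sum_le_sum_of_subset_of_nonneg (fun g hg => ?_) fun _ _ _ => sq_nonneg _
  obtain ⟨⟨x, y⟩, hxy, rfl⟩ := Finset.mem_image.1 hg
  simp only [Finset.mem_product, Finset.mem_erase, Finset.mem_univ, and_true] at hxy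
  have hxo : orderOf x = p := by
    have h1 := orderOf_dvd_natCard x
    rw [hPc] at h1
    exact ((Nat.dvd_prime hp.out).1 h1).resolve_left fun e => hxy (orderOf_eq_one_iff.1 e)
  simp only [singPart, Finset.mem_filter, Finset.mem_univ, true_and]
  refine ⟨?_, ?_⟩
  · rw [hπ]
    refine mul_mem (Subgroup.mem_centralizer_iff.2 fun z hz => ?_) (hKC y.2)
    haveI : IsCyclic (P : Subgroup G) := isCyclic_of_prime_card hPc
    exact congrArg Subtype.val ((IsCyclic.commGroup (α := (P : Subgroup G))).mul_comm ⟨z, hz⟩ x)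
  · rw [orderOf_injective π hinj, Prod.orderOf, hxo]
    exact Nat.dvd_lcm_left _ _

theorem sum_singPart_le (hp1 : p ∣ Nat.card G) (hp2 : ¬ p ^ 2 ∣ Nat.card G) [Fintype (Sylow p G)]
    {f : G → ℝ} (hf : ∀ g, 0 ≤ f g) :
    ∑ P : Sylow p G, ∑ g ∈ singPart p P, f g ≤ ∑ g ∈ univ.filter (fun g : G => p ∣ orderOf g), f g := by
  classical
  have huniq : ∀ (P Q : Sylow p G) g, g ∈ singPart p P → g ∈ singPart p Q → P = Q := by
    intro P Q g hg hg'
    simp only [singPart, Finset.mem_filter, Finset.mem_univ, true_and] at hg hg'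
    set x := g ^ (orderOf g / p)
    have hxo : orderOf x = p := orderOf_pow_orderOf_div (orderOf_pos g).ne' hg.2
    have key : ∀ R : Sylow p G, g ∈ Subgroup.centralizer ((R : Subgroup G) : Set G) →
        (R : Subgroup G) = Subgroup.zpowers x := by
      intro R hR
      have hxR : x ∈ (R : Subgroup G) := by
        obtain ⟨K, hKC, hcard, hpK, hdec⟩ := exists_pcompl hp1 hp2 R
        obtain ⟨a, ha, b, hb, hab⟩ := hdec x (pow_mem hR _)
        have hcomm : Commute a b := Subgroup.mem_centralizer_iff.1 (hKC hb) a ha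
        have hapow : a ^ p = 1 := by
          have := Subgroup.orderOf_dvd_natCard _ ha
          rw [card_sylow_prime hp1 hp2 R] at this
          exact orderOf_dvd_iff_pow_eq_one.1 this
        have hb1 : b = 1 := by
          rw [← orderOf_eq_one_iff]
          refine Nat.eq_one_of_dvd_coprimes (hp.out.coprime_iff_not_dvd.2 hpK)
            (orderOf_dvd_of_pow_eq_one ?_) (Subgroup.orderOf_dvd_natCard _ hb)
          have : x ^ p = 1 := hxo ▸ pow_orderOf_eq_one x
          rwa [hab, hcomm.mul_pow, hapow, one_mul] at this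
        rw [hab, hb1, mul_one]
        exact ha
      refine (Subgroup.eq_of_le_of_card_ge (Subgroup.zpowers_le.2 hxR) ?_).symm
      rw [Nat.card_zpowers, hxo, card_sylow_prime hp1 hp2 R]
    exact Sylow.ext ((key P hg.1).trans (key Q hg'.1).symm)
  rw [← Finset.sum_biUnion fun P _ Q _ hne => Finset.disjoint_left.2 fun g hg hg' => hne (huniq P Q g hg hg')]
  refine Finset.sum_le_sum_of_subset_of_nonneg (fun g hg => ?_) fun g _ _ => hf g
  obtain ⟨P, -, hg⟩ := Finset.mem_biUnion.1 hg
  simp only [singPart, Finset.mem_filter, Finset.mem_univ, true_and] at hg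
  simp [hg.2]

/-- A character of degree prime to `p` carries at least `|G| / p` on the elements of order divisible by `p`. -/
theorem norm_singular_ge (χ : IrrCharacter G) {d : ℕ} (hd : (χ : G → ℂ) 1 = d) (hpd : ¬ p ∣ d)
    (hp1 : p ∣ Nat.card G) (hp2 : ¬ p ^ 2 ∣ Nat.card G) :
    (Nat.card G : ℝ) / p ≤ ∑ g ∈ univ.filter (fun g : G => p ∣ orderOf g), ‖(χ : G → ℂ) g‖ ^ 2 := by
  classical
  have := Fintype.ofFinite (Sylow p G)
  refine le_trans ?_ ((Finset.sum_le_sum fun P _ => norm_singPart_le χ hd hpd hp1 hp2 P).trans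
    (sum_singPart_le hp1 hp2 fun g => sq_nonneg _))
  have hbd : ∀ P : Sylow p G, (Nat.card G : ℝ) / p / Fintype.card (Sylow p G) ≤
      (Nat.card (Subgroup.centralizer ((P : Subgroup G) : Set G)) : ℝ) / p * ((p : ℝ) - 1) := by
    intro P
    haveI : IsCyclic (P : Subgroup G) := isCyclic_of_prime_card (card_sylow_prime hp1 hp2 P)
    set N := Subgroup.normalizer ((P : Subgroup G) : Set G)
    have hN : Nat.card N ≤ Nat.card (Subgroup.centralizer ((P : Subgroup G) : Set G)) * (p - 1) := by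
      let φ := (P : Subgroup G).normalizerMonoidHom
      have h1 := Subgroup.card_mul_index φ.ker
      rw [Subgroup.index_ker] at h1
      rw [← h1]
      refine Nat.mul_le_mul (le_of_eq ?_) ((Subgroup.card_le_card_group φ.range).trans (le_of_eq ?_))
      · rw [Subgroup.normalizerMonoidHom_ker]
        exact Nat.card_congr (Subgroup.subgroupOfEquivOfLe (Subgroup.centralizer_le_normalizer _)).toEquiv
      · rw [IsCyclic.card_mulAut, card_sylow_prime hp1 hp2 P, Nat.totient_prime hp.out]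
    have hG : Nat.card G = Fintype.card (Sylow p G) * Nat.card N := by
      rw [← Nat.card_eq_fintype_card, P.card_eq_index_normalizer]
      exact (Subgroup.index_mul_card N).symm
    have hp0 : (0 : ℝ) < p := by exact_mod_cast hp.out.pos
    rw [hG, Nat.cast_mul, mul_div_assoc,
      mul_div_cancel_left₀ _ (Nat.cast_ne_zero.2 Fintype.card_pos.ne'),
      div_mul_eq_mul_div, div_le_div_iff_of_pos_right hp0]
    have hN' : (Nat.card N : ℝ) ≤
        ((Nat.card (Subgroup.centralizer ((P : Subgroup G) : Set G)) * (p - 1) : ℕ) : ℝ) := by exact_mod_cast hN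
    rwa [Nat.cast_mul, Nat.cast_sub hp.out.one_le, Nat.cast_one] at hN'
  refine le_trans (le_of_eq ?_) (Finset.sum_le_sum fun P (_ : P ∈ univ) => hbd P)
  rw [Finset.sum_const, Finset.card_univ, nsmul_eq_mul, mul_div_cancel₀]
  exact Nat.cast_ne_zero.2 Fintype.card_pos.ne'

end CfsgLib.Spor.OneBlock
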