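import Cfsg.Agent.Lib.Spor.OneBlock.FreeKernel
import Cfsg.Agent.Lib.Spor.OneBlock.LocalNorms
import Cfsg.Agent.Lib.Spor.SylowSeven

/-!
# The Mathieu group of degree 24 has a single 2-block
-/

set_option autoImplicit false

namespace CfsgLib.Spor.OneBlock

open Cfsg CfsgLib.Spor Finset
open scoped Pointwise

/-! ### The 2-local hypothesis -/

theorem local_M24_octad (z : M24) (hz : orderOf z = 2) (ho : fixSet (z : Equiv.Perm GolayPt) ∈ octads) :
    ∃ Q : Subgroup M24, IsPGroup 2 Q ∧
    Q ≤ Subgroup.centralizer ({z} : Set M24) ∧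
    Subgroup.centralizer ({z} : Set M24) ≤ Subgroup.normalizer (Q : Set M24) ∧
    ∀ c, Commute c z → (∀ u ∈ Q, Commute c u) → c ∈ Q := by
  set o := fixSet (z : Equiv.Perm GolayPt) with hodef
  have hle : ptwise o ≤ M24 := fun g hg => (mem_ptwise.1 hg).1
  have hzo : (z : Equiv.Perm GolayPt) ∈ ptwise o :=
    mem_ptwise.2 ⟨z.2, fun p hp => PointSub.mem_fixSet.1 hp⟩
  refine ⟨(ptwise o).subgroupOf M24, ?_, ?_, ?_, ?_⟩
  · refine IsPGroup.of_card (n := 4) ?_
    rw [Nat.card_congr (Subgroup.subgroupOfEquivOfLe hle).toEquiv, (ptwise_facts ho).1]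
    norm_num
  · intro u hu
    rw [Subgroup.mem_centralizer_singleton_iff]
    exact Subtype.ext (ptwise_comm ho (Subgroup.mem_subgroupOf.1 hu) hzo)
  · intro c hc
    rw [Subgroup.mem_centralizer_singleton_iff] at hc
    have hco := smul_fixSet_of_commute (congrArg Subtype.val hc)
    rw [Subgroup.mem_normalizer_iff]
    intro u
    simp only [SetLike.mem_coe, Subgroup.mem_subgroupOf, Subgroup.coe_mul, InvMemClass.coe_inv]
    have e := ptwise_smul (c : Equiv.Perm GolayPt) c.2 o
    rw [hco] at e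
    constructor
    · intro hu
      rw [e]
      exact ⟨u, hu, rfl⟩
    · intro hu
      rw [e] at hu
      obtain ⟨v, hv, hve⟩ := hu
      rwa [show (u : Equiv.Perm GolayPt) = v from ((MulAut.conj (c : Equiv.Perm GolayPt)).injective hve).symm]
  · intro c hcz hcQ
    rw [Subgroup.mem_subgroupOf]
    refine mem_ptwise_of_commute ho c.2 (smul_fixSet_of_commute (congrArg Subtype.val hcz.eq))
      fun u hu => ?_
    exact congrArg Subtype.val (hcQ ⟨u, hle hu⟩ (Subgroup.mem_subgroupOf.2 hu)).eq

theorem exists_conj_freeInv {z : Equiv.Perm GolayPt} (hz : z ∈ M24) (h2 : orderOf z = 2)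
    (hfree : ∀ p, z p ≠ p) : ∃ k ∈ M24, k * z * k⁻¹ = permOf freeInv := by
  obtain ⟨hM, hsq, hfix, -, -⟩ := freeInv_facts
  have hp := isPermCode_of_isM24Code hM
  have hmove : ∀ p, permOf freeInv p ≠ p := by
    intro p hpp
    have : p ∈ fixSet (permOf freeInv) := PointSub.mem_fixSet.2 hpp
    rw [fixSet_permOf hp, hfix, mem_pts] at this
    simp at this
  have ho : orderOf (permOf freeInv) = 2 := by
    haveI : Fact (Nat.Prime 2) := ⟨Nat.prime_two⟩
    exact orderOf_eq_prime (by rw [pow_two]; exact eq_one_of_sqCode hp hsq)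
      (fun h1 => hmove none (by rw [h1]; rfl))
  exact involution_classes.2.2.2 z hz _ (permOf_mem_M24 hM) h2 ho ⟨fun _ => hmove, fun _ => hfree⟩

theorem local_M24_free (z : M24) (hz : orderOf z = 2) (hfree : ∀ p, (z : Equiv.Perm GolayPt) p ≠ p) :
    ∃ Q : Subgroup M24, IsPGroup 2 Q ∧
    Q ≤ Subgroup.centralizer ({z} : Set M24) ∧
    Subgroup.centralizer ({z} : Set M24) ≤ Subgroup.normalizer (Q : Set M24) ∧
    ∀ c, Commute c z → (∀ u ∈ Q, Commute c u) → c ∈ Q := by
  obtain ⟨k, hk, ek⟩ := exists_conj_freeInv z.2 (by rw [Subgroup.orderOf_coe]; exact hz) hfree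
  let f : M24 →* Equiv.Perm GolayPt := (MulAut.conj k).toMonoidHom.comp M24.subtype
  have hf : ∀ g : M24, f g = k * g * k⁻¹ := fun g => rfl
  have hfi : Function.Injective f := (MulAut.conj k).injective.comp M24.subtype_injective
  have hfC : ∀ g : M24, Commute g z ↔ f g ∈ freeCent := by
    intro g
    have hfM : f g ∈ M24 := M24.mul_mem (M24.mul_mem hk g.2) (M24.inv_mem hk)
    rw [mem_freeCent, ← ek, ← hf z, ← map_mul, ← map_mul, hfi.eq_iff]
    exact ⟨fun h => ⟨hfM, h⟩, fun h => h.2⟩
  refine ⟨freeKernel.comap f, ?_, ?_, ?_, ?_⟩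
  · rw [IsPGroup.iff_orderOf]
    intro x
    have h : x ^ 2 = 1 := Subtype.ext (hfi (by
      rw [SubgroupClass.coe_pow, map_pow, pow_two, sq_freeKernel x.2, OneMemClass.coe_one, map_one]))
    obtain ⟨i, -, e⟩ := (Nat.dvd_prime_pow Nat.prime_two).1 ((pow_one 2).symm ▸ orderOf_dvd_of_pow_eq_one h)
    exact ⟨i, e⟩
  · intro u hu
    exact Subgroup.mem_centralizer_singleton_iff.2 ((hfC u).2 (mem_freeKernel.1 hu).1).eq
  · intro c hc
    have hcC := (hfC c).1 (Subgroup.mem_centralizer_singleton_iff.1 hc)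
    rw [Subgroup.mem_normalizer_iff]
    intro u
    simp only [SetLike.mem_coe, Subgroup.mem_comap, map_mul, map_inv]
    refine ⟨freeKernel_normal hcC, fun h => ?_⟩
    simpa [mul_assoc] using freeKernel_normal (inv_mem hcC) h
  · intro c hcz hcQ
    refine freeKernel_self_centralizing ((hfC c).1 hcz) fun v hv => ?_
    have hvM : k⁻¹ * v * k ∈ M24 :=
      M24.mul_mem (M24.mul_mem (M24.inv_mem hk) (mem_freeCent.1 (mem_freeKernel.1 hv).1).1) hk
    have hfv : f ⟨k⁻¹ * v * k, hvM⟩ = v := by rw [hf]; group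
    have := congrArg f (hcQ ⟨_, hvM⟩ (show f _ ∈ freeKernel by rw [hfv]; exact hv)).eq
    rwa [map_mul, map_mul, hfv] at this

theorem local_M24 (z : M24) (hz : orderOf z = 2) : ∃ Q : Subgroup M24, IsPGroup 2 Q ∧
    Q ≤ Subgroup.centralizer ({z} : Set M24) ∧
    Subgroup.centralizer ({z} : Set M24) ≤ Subgroup.normalizer (Q : Set M24) ∧
    ∀ c, Commute c z → (∀ u ∈ Q, Commute c u) → c ∈ Q := by
  rcases involution_classes.1 z z.2 (by rw [Subgroup.orderOf_coe]; exact hz) with h | h
  · exact local_M24_octad z hz h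
  · exact local_M24_free z hz h

/-! ### Commuting elements of large prime order -/

/-- The possible numbers of fixed points of an element of prime order. -/
def fixOptions (q : ℕ) : List ℕ := if q = 2 then [0, 8] else if q = 3 then [0, 6] else [24 % q]

theorem fix_mem {q : ℕ} [hq : Fact q.Prime] {x : Equiv.Perm GolayPt} (hx : x ∈ M24)
    (ho : orderOf x = q) : (fixSet x).card ∈ fixOptions q := by
  unfold fixOptions
  split_ifs with e2 e3
  · rcases two_fix hx (e2 ▸ ho) with h | h
    · simp [h.2]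
    · simp [h]
  · rcases three_fix hx (e3 ▸ ho) with h | h <;> simp [h]
  · have h5 : 5 ≤ q := by
      have := hq.out.two_le
      have h4 : q ≠ 4 := fun e => absurd (e ▸ hq.out) (by norm_num)
      omega
    simp [PointSub.fix_card h5 hx ho]

/-- No consistent fixed point numbers for commuting elements of these orders. -/
theorem fix_table24 : ∀ pq ∈ [(23, 2), (23, 3), (23, 5), (23, 7), (23, 11), (11, 3), (11, 5), (11, 7),
    (11, 23), (7, 5), (7, 11), (7, 23), (5, 7), (5, 11), (5, 23)],
    ∀ a ∈ fixOptions pq.1, ∀ b ∈ fixOptions pq.2, ∀ n ∈ List.range 9,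
      ¬ (n ≤ a ∧ n ≤ b ∧ a % pq.2 = n % pq.2 ∧ b % pq.1 = n % pq.1) := by
  decide +kernel

theorem not_commute24 {p q : ℕ} [hp : Fact p.Prime] [hq : Fact q.Prime]
    (hpq : (p, q) ∈ [(23, 2), (23, 3), (23, 5), (23, 7), (23, 11), (11, 3), (11, 5), (11, 7),
      (11, 23), (7, 5), (7, 11), (7, 23), (5, 7), (5, 11), (5, 23)])
    {x c : Equiv.Perm GolayPt} (hx : x ∈ M24) (hc : c ∈ M24)
    (hxo : orderOf x = p) (hco : orderOf c = q) (hcomm : c * x = x * c) : False := by
  set F := fixSet x ∩ fixSet c with hF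
  have h1 := PointSub.card_modEq (PointSub.pow_orderOf_self hco) (fixSet x) fun r hr => by
    rw [PointSub.mem_fixSet] at hr ⊢
    rw [← Equiv.Perm.mul_apply, ← hcomm, Equiv.Perm.mul_apply, hr]
  have h2 := PointSub.card_modEq (PointSub.pow_orderOf_self hxo) (fixSet c) fun r hr => by
    rw [PointSub.mem_fixSet] at hr ⊢
    rw [← Equiv.Perm.mul_apply, hcomm, Equiv.Perm.mul_apply, hr]
  have e1 : PointSub.fixIn c (fixSet x) = F := by
    ext r; simp [hF, PointSub.mem_fixIn, PointSub.mem_fixSet]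
  have e2 : PointSub.fixIn x (fixSet c) = F := by
    ext r; simp [hF, PointSub.mem_fixIn, PointSub.mem_fixSet, and_comm]
  rw [e1] at h1
  rw [e2] at h2
  have hx1 : x ≠ 1 := fun h => hp.out.one_lt.ne (by rw [← hxo, h, orderOf_one])
  refine fix_table24 _ hpq _ (fix_mem hx hxo) _ (fix_mem hc hco) F.card (List.mem_range.2 ?_)
    ⟨Finset.card_le_card Finset.inter_subset_left, Finset.card_le_card Finset.inter_subset_right, h1, h2⟩
  have := (Finset.card_le_card (Finset.inter_subset_left (s₁ := fixSet x) (s₂ := fixSet c))).trans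
    (PointSub.fix_le_eight hx hx1)
  exact Nat.lt_succ_of_le this

theorem prime_dvd_card24 {q : ℕ} (hq : q.Prime) (h : q ∣ 244823040) : q ∈ [2, 3, 5, 7, 11, 23] := by
  have h' : q ∣ 2 ^ 10 * (3 ^ 3 * (5 * (7 * (11 * 23)))) := h
  rcases hq.dvd_mul.1 h' with h' | h'
  · simp [(Nat.prime_dvd_prime_iff_eq hq Nat.prime_two).1 (hq.dvd_of_dvd_pow h')]
  rcases hq.dvd_mul.1 h' with h' | h'
  · simp [(Nat.prime_dvd_prime_iff_eq hq Nat.prime_three).1 (hq.dvd_of_dvd_pow h')]
  rcases hq.dvd_mul.1 h' with h' | h'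
  · simp [(Nat.prime_dvd_prime_iff_eq hq (by norm_num)).1 h']
  rcases hq.dvd_mul.1 h' with h' | h'
  · simp [(Nat.prime_dvd_prime_iff_eq hq (by norm_num)).1 h']
  rcases hq.dvd_mul.1 h' with h' | h'
  · simp [(Nat.prime_dvd_prime_iff_eq hq (by norm_num)).1 h']
  · simp [(Nat.prime_dvd_prime_iff_eq hq (by norm_num)).1 h']

theorem centralizer_card24 {p : ℕ} [hp : Fact p.Prime] (hp11 : p ∈ [11, 23]) {x : M24}
    (hx : orderOf x = p) : Nat.card (Subgroup.centralizer ({x} : Set M24)) = p := by
  set C := Subgroup.centralizer ({x} : Set M24) with hCdef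
  have hpC : p ∣ Nat.card C := by
    rw [← hx]
    exact Subgroup.orderOf_dvd_natCard _ (Subgroup.mem_centralizer_singleton_iff.2 rfl)
  have hdvd : Nat.card C ∣ 244823040 := card_M24 ▸ Subgroup.card_subgroup_dvd_card C
  have hxM : orderOf (x : Equiv.Perm GolayPt) = p := by rw [Subgroup.orderOf_coe]; exact hx
  have hq : ∀ q : ℕ, q.Prime → q ∣ Nat.card C → q = p := by
    intro q hq hqC
    haveI := Fact.mk hq
    obtain ⟨c, hc⟩ := exists_prime_orderOf_dvd_card' q hqC
    have hcM : orderOf ((c : M24) : Equiv.Perm GolayPt) = q := by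
      rw [Subgroup.orderOf_coe, Subgroup.orderOf_coe]; exact hc
    have hcx : ((c : M24) : Equiv.Perm GolayPt) * x = x * (c : M24) :=
      congrArg Subtype.val (Subgroup.mem_centralizer_singleton_iff.1 c.2)
    by_contra hne
    by_cases h112 : p = 11 ∧ q = 2
    · obtain ⟨rfl, rfl⟩ := h112
      rcases involution_classes.1 _ (c : M24).2 hcM with ho | hfree
      · have h1 := PointSub.card_modEq (PointSub.pow_orderOf_self hxM) (fixSet ((c : M24) : Equiv.Perm GolayPt))
          fun r hr => by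
            rw [PointSub.mem_fixSet] at hr ⊢
            rw [← Equiv.Perm.mul_apply, hcx, Equiv.Perm.mul_apply, hr]
        have hle : (PointSub.fixIn (x : Equiv.Perm GolayPt) (fixSet ((c : M24) : Equiv.Perm GolayPt))).card ≤ 2 := by
          refine (Finset.card_le_card (PointSub.fixIn_subset _ _)).trans ?_
          rw [PointSub.fix_card (by norm_num) x.2 hxM]
        rw [ho.2] at h1
        omega
      · obtain ⟨k, hk, ek⟩ := exists_conj_freeInv (c : M24).2 hcM hfree
        have hy : k * x * k⁻¹ ∈ freeCent := by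
          refine mem_freeCent.2 ⟨M24.mul_mem (M24.mul_mem hk x.2) (M24.inv_mem hk), ?_⟩
          rw [← ek]
          calc k * x * k⁻¹ * (k * ((c : M24) : Equiv.Perm GolayPt) * k⁻¹) = k * (x * (c : M24)) * k⁻¹ := by group
            _ = k * ((c : M24) * x) * k⁻¹ := by rw [hcx]
            _ = _ := by group
        have h11 := Subgroup.orderOf_dvd_natCard _ hy
        rw [card_freeCent, ← MulAut.conj_apply, MulEquiv.orderOf_eq, hxM] at h11
        norm_num at h11
    · have hq6 := prime_dvd_card24 hq (hqC.trans hdvd)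
      refine not_commute24 (p := p) (q := q) ?_ x.2 (c : M24).2 hxM hcM hcx
      fin_cases hp11 <;> fin_cases hq6 <;> simp_all
  have hpg : IsPGroup p C := IsPGroup.of_card (n := (Nat.card C).primeFactorsList.length)
    (Nat.eq_prime_pow_of_unique_prime_dvd Nat.card_pos.ne' fun {q} hq' hqC => hq q hq' hqC)
  obtain ⟨n, hn⟩ := hpg.exists_card_eq
  rw [hn] at hdvd hpC ⊢
  have h1 : n ≠ 0 := fun h => by
    rw [h, pow_zero] at hpC
    exact hp.out.not_dvd_one hpC
  rcases Nat.lt_or_ge n 2 with h | h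
  · rw [show n = 1 by omega, pow_one]
  · exfalso
    have h2 := (pow_dvd_pow p h).trans hdvd
    fin_cases hp11 <;> norm_num at h2

set_option maxRecDepth 4000 in
theorem sylow_numbers24 {p : ℕ} [hp : Fact p.Prime] (hp11 : p ∈ [11, 23]) :
    (p = 11 → Nat.card (Sylow p M24) = 2225664) ∧ (p = 23 → Nat.card (Sylow p M24) = 967680) := by
  let P : Sylow p M24 := Classical.arbitrary _
  have hcard : Nat.card P = p := by
    refine card_sylow_prime (G := M24) ?_ ?_ P <;> rw [card_M24] <;> fin_cases hp11 <;> norm_num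
  haveI : IsCyclic (P : Subgroup M24) := isCyclic_of_prime_card hcard
  obtain ⟨x, hx⟩ := IsCyclic.exists_generator (α := (P : Subgroup M24))
  have hxo : orderOf (x : M24) = p := by
    rw [Subgroup.orderOf_coe, orderOf_eq_card_of_forall_mem_zpowers hx, hcard]
  set N := Subgroup.normalizer ((P : Subgroup M24) : Set M24)
  have hN : Nat.card N ∣ p * (p - 1) := by
    let φ := (P : Subgroup M24).normalizerMonoidHom
    have h1 := Subgroup.card_mul_index φ.ker
    rw [Subgroup.index_ker] at h1
    rw [← h1]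
    refine mul_dvd_mul ?_ ?_
    · rw [Subgroup.normalizerMonoidHom_ker]
      refine dvd_of_eq (Eq.trans ?_ (centralizer_card24 hp11 hxo))
      refine (Nat.card_congr ((Subgroup.subgroupOfEquivOfLe ?_).toEquiv.trans (Equiv.setCongr ?_)))
      · exact Subgroup.centralizer_le_normalizer _
      · congr 1
        ext y
        rw [Subgroup.mem_centralizer_iff, Subgroup.mem_centralizer_singleton_iff]
        constructor
        · intro h; exact (h x x.2).symm
        · intro h u hu
          obtain ⟨n, hn⟩ := Subgroup.mem_zpowers_iff.1 (hx ⟨u, hu⟩)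
          have e : ((x : M24)) ^ n = u := congrArg Subtype.val hn
          rw [← e]
          exact ((show Commute y (x : M24) from h).zpow_right n).eq.symm
    · refine (Subgroup.card_subgroup_dvd_card φ.range).trans (dvd_of_eq ?_)
      rw [IsCyclic.card_mulAut, hcard, Nat.totient_prime hp.out]
  have hindex : Nat.card (Sylow p M24) * Nat.card N = 244823040 := by
    rw [P.card_eq_index_normalizer]; exact (Subgroup.index_mul_card N).trans card_M24
  have hmod := card_sylow_modEq_one p M24
  have hNmem : Nat.card N ∈ Nat.divisors (p * (p - 1)) :=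
    Nat.mem_divisors.2 ⟨hN, Nat.mul_ne_zero hp.out.ne_zero (by have := hp.out.two_le; omega)⟩
  have hpN : p ∣ Nat.card N := hcard ▸ Subgroup.card_dvd_of_le Subgroup.le_normalizer
  unfold Nat.ModEq at hmod
  refine ⟨?_, ?_⟩ <;> intro he <;> subst he
  · rw [show Nat.divisors (11 * (11 - 1)) = {1, 2, 5, 10, 11, 22, 55, 110} by decide +kernel] at hNmem
    simp only [Finset.mem_insert, Finset.mem_singleton] at hNmem
    rcases hNmem with e | e | e | e | e | e | e | e <;> rw [e] at hindex hpN <;> omega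
  · rw [show Nat.divisors (23 * (23 - 1)) = {1, 2, 11, 22, 23, 46, 253, 506} by decide +kernel] at hNmem
    simp only [Finset.mem_insert, Finset.mem_singleton] at hNmem
    rcases hNmem with e | e | e | e | e | e | e | e <;> rw [e] at hindex hpN <;> omega

/-! ### No character of defect zero -/

/-- The squared norms over the elements of order divisible by seven. -/
theorem norm_seven_ge (χ : IrrCharacter M24) {d : ℕ} (hd : (χ : M24 → ℂ) 1 = d) (hpd : ¬ 7 ∣ d)
    [Fintype M24] [DecidableEq M24] :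
    (69948 : ℝ) * 1000 ≤ ∑ g ∈ univ.filter (fun g : M24 => 7 ∣ orderOf g), ‖(χ : M24 → ℂ) g‖ ^ 2 := by
  classical
  haveI : Fact (Nat.Prime 7) := ⟨by norm_num⟩
  have := Fintype.ofFinite (Sylow 7 M24)
  have hp1 : 7 ∣ Nat.card M24 := by rw [card_M24]; norm_num
  have hp2 : ¬ 7 ^ 2 ∣ Nat.card M24 := by rw [card_M24]; norm_num
  refine le_trans ?_ ((Finset.sum_le_sum fun P _ => norm_singPart_le χ hd hpd hp1 hp2 P).trans
    (sum_singPart_le hp1 hp2 fun g => sq_nonneg _))
  have hC : ∀ P : Sylow 7 M24,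
      Nat.card (Subgroup.centralizer ((P : Subgroup M24) : Set M24)) = 42 := fun P =>
    (sylow_seven _ (card_sylow_prime hp1 hp2 P)).2.1
  have hn : Fintype.card (Sylow 7 M24) = 1943040 := by
    let P : Sylow 7 M24 := Classical.arbitrary _
    have h1 := Subgroup.index_mul_card (Subgroup.normalizer ((P : Subgroup M24) : Set M24))
    have h2 : Nat.card (Sylow 7 M24) = (Subgroup.normalizer ((P : Subgroup M24) : Set M24)).index :=
      P.card_eq_index_normalizer
    rw [← h2, (sylow_seven _ (card_sylow_prime hp1 hp2 P)).1, card_M24, Nat.card_eq_fintype_card] at h1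
    omega
  simp only [hC, Finset.sum_const, Finset.card_univ, hn, nsmul_eq_mul]
  norm_num

theorem no_defect_zero24 (χ : IrrCharacter M24) :
    ¬ 2 ^ (Nat.card M24).factorization 2 ∣ charDegree (χ : M24 → ℂ) := by
  classical
  letI : Fintype M24 := Fintype.ofFinite _
  intro hdvd
  obtain ⟨d, hd⟩ := Char.isCharacter_degree (Char.isCharacter_irr χ)
  have hdeg : charDegree (χ : M24 → ℂ) = d := by simp [charDegree, hd]
  have h10 : (Nat.card M24).factorization 2 = 10 := by
    rw [card_M24, Nat.factorization_def _ Nat.prime_two]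
    decide +kernel
  rw [h10, hdeg] at hdvd
  have hdG : d ∣ 244823040 := card_M24 ▸ Char.degree_dvd_card χ hd
  have tot := norm_total χ
  rw [card_M24] at tot
  push_cast at tot
  let S : ℕ → Finset M24 := fun p => univ.filter fun x => p ∣ orderOf x
  let nrm : Finset M24 → ℝ := fun T => ∑ x ∈ T, ‖(χ : M24 → ℂ) x‖ ^ 2
  haveI h5f : Fact (Nat.Prime 5) := ⟨by norm_num⟩
  haveI h7f : Fact (Nat.Prime 7) := ⟨by norm_num⟩
  haveI h11f : Fact (Nat.Prime 11) := ⟨by norm_num⟩
  haveI h23f : Fact (Nat.Prime 23) := ⟨by norm_num⟩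
  have hdisj : ∀ p q : ℕ, p.Prime → q.Prime →
      (p, q) ∈ [(23, 2), (23, 3), (23, 5), (23, 7), (23, 11), (11, 3), (11, 5), (11, 7),
        (11, 23), (7, 5), (7, 11), (7, 23), (5, 7), (5, 11), (5, 23)] → Disjoint (S p) (S q) := by
    intro p q hp hq hmem
    haveI := Fact.mk hp
    haveI := Fact.mk hq
    refine Finset.disjoint_left.2 fun g hg hg' => ?_
    simp only [S, mem_filter, mem_univ, true_and] at hg hg'
    set x := g ^ (orderOf g / p)
    set c := g ^ (orderOf g / q)
    refine not_commute24 hmem x.2 c.2 ?_ ?_ (congrArg Subtype.val ((Commute.refl g).pow_pow _ _).eq)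
    · rw [Subgroup.orderOf_coe]; exact orderOf_pow_orderOf_div (orderOf_pos g).ne' hg
    · rw [Subgroup.orderOf_coe]; exact orderOf_pow_orderOf_div (orderOf_pos g).ne' hg'
  set T := (((({1} : Finset M24) ∪ S 23) ∪ S 11) ∪ S 7) ∪ S 5 with hT
  have hone : ∀ p : ℕ, p.Prime → Disjoint ({1} : Finset M24) (S p) := fun p hp => by
    simp [S, hp.ne_one]
  have hsum : nrm T = (d : ℝ) ^ 2 + nrm (S 23) + nrm (S 11) + nrm (S 7) + nrm (S 5) := by
    simp only [nrm, hT]
    have d1 := hdisj 23 11 (by norm_num) (by norm_num) (by simp)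
    have d2 := hdisj 23 7 (by norm_num) (by norm_num) (by simp)
    have d3 := hdisj 23 5 (by norm_num) (by norm_num) (by simp)
    have d4 := hdisj 11 7 (by norm_num) (by norm_num) (by simp)
    have d5 := hdisj 11 5 (by norm_num) (by norm_num) (by simp)
    have d6 := hdisj 7 5 (by norm_num) (by norm_num) (by simp)
    rw [Finset.sum_union, Finset.sum_union, Finset.sum_union, Finset.sum_union, Finset.sum_singleton, hd]
    · simp
    · exact hone 23 (by norm_num)
    · exact Finset.disjoint_union_left.2 ⟨hone 11 (by norm_num), d1⟩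
    · exact Finset.disjoint_union_left.2
        ⟨Finset.disjoint_union_left.2 ⟨hone 7 (by norm_num), d2⟩, d4⟩
    · exact Finset.disjoint_union_left.2 ⟨Finset.disjoint_union_left.2
        ⟨Finset.disjoint_union_left.2 ⟨hone 5 (by norm_num), d3⟩, d5⟩, d6⟩
  have hle : nrm T ≤ 244823040 := tot ▸ Finset.sum_le_univ_sum_of_nonneg fun x => sq_nonneg _
  have hnn : ∀ p, 0 ≤ nrm (S p) := fun p => Finset.sum_nonneg fun x _ => sq_nonneg _
  have hsq : (d : ℝ) ^ 2 ≤ 244823040 := by
    have := hnn 5; have := hnn 7; have := hnn 11; have := hnn 23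
    linarith
  obtain ⟨k, hk⟩ := hdvd
  have hk15 : k ≤ 15 := by
    by_contra h
    have hbig : 16384 ≤ d := by omega
    have : (16384 : ℝ) ≤ d := by exact_mod_cast hbig
    nlinarith
  have hexact : ∀ p : ℕ, [Fact p.Prime] → (p ∣ 244823040) → ¬ p ^ 2 ∣ 244823040 →
      (Nat.card (Sylow p M24) : ℝ) * ((p : ℤ) * ((2 * (d / p : ℕ) + 1) * d - p * (d / p : ℕ) * ((d / p : ℕ) + 1)) - (d : ℝ) ^ 2)
        ≤ nrm (S p) := by
    intro p _ h1 h2
    refine (norm_orderOf_le χ hd (p := p) (by rwa [card_M24]) (by rwa [card_M24]) (d / p)).trans ?_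
    refine Finset.sum_le_sum_of_subset_of_nonneg (fun x hx => ?_) fun _ _ _ => sq_nonneg _
    simp only [S, mem_filter, mem_univ, true_and] at hx ⊢
    rw [hx]
  have B23 := hexact 23 (by norm_num) (by norm_num)
  have B11 := hexact 11 (by norm_num) (by norm_num)
  rw [(sylow_numbers24 (p := 23) (by simp)).2 rfl] at B23
  rw [(sylow_numbers24 (p := 11) (by simp)).1 rfl] at B11
  have hk0 : k ≠ 0 := fun h => Char.irr_one_ne_zero χ (by rw [hd, hk, h]; simp)
  have hodd : ¬ 2 ∣ k := by
    rintro ⟨j, rfl⟩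
    have h2 : 2 ^ 11 ∣ 244823040 := (Dvd.intro j (by rw [hk]; ring)).trans hdG
    norm_num at h2
  have b7 : ¬ 7 ∣ d → (69948 : ℝ) * 1000 ≤ nrm (S 7) := fun h => norm_seven_ge χ hd h
  have b5 : ¬ 5 ∣ d → (244823040 : ℝ) / 5 ≤ nrm (S 5) := fun h => by
    have := norm_singular_ge χ hd h (by rw [card_M24]; norm_num) (by rw [card_M24]; norm_num)
    rw [card_M24] at this
    exact_mod_cast this
  have h5n := hnn 5
  have h7n := hnn 7
  rcases (show k = 1 ∨ k = 3 ∨ k = 5 ∨ k = 7 ∨ k = 9 ∨ k = 11 ∨ k = 13 ∨ k = 15 by omega) with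
    h | h | h | h | h | h | h | h <;> subst h <;> subst hk
  · have := b7 (by norm_num); have := b5 (by norm_num); norm_num at *; linarith
  · have := b7 (by norm_num); norm_num at *; linarith
  · have := b7 (by norm_num); norm_num at *; linarith
  · have := b5 (by norm_num); norm_num at *; linarith
  · have := b7 (by norm_num); norm_num at *; linarith
  · have := b7 (by norm_num); have := b5 (by norm_num); norm_num at *; linarith
  · norm_num at hdG
  · norm_num at *; linarith

theorem sameBlock_M24 (M : Ideal AlgInt) (hM : IsPModular 2 M) (χ ψ : IrrCharacter M24) :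
    SameBlock M (χ : M24 → ℂ) (ψ : M24 → ℂ) := by
  classical
  haveI := hM.2.1
  letI : Fintype M24 := Fintype.ofFinite _
  exact Block.OneBlock.sameBlock_of_local hM local_M24 no_defect_zero24 χ ψ

end CfsgLib.Spor.OneBlock
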