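import Cfsg.Agent.Lib.Char.Orthogonality
import Cfsg.Agent.Lib.Char.Degree
import Cfsg.Agent.Lib.Char.Induction
import Mathlib.GroupTheory.Sylow

/-!
# Norms of character restrictions to subgroups of prime order

A character of degree `d = q p + r` has squared norms summing to at least
`p ((2 q + 1) d - p q (q + 1))` over a subgroup of order `p`.
-/

open Finset
open scoped ComplexConjugate

namespace CfsgLib.Spor.OneBlock

open Cfsg

universe u

variable {G : Type u} [Group G] [Fintype G]

/-- The norm of a character on a group of prime order. -/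
theorem norm_cyclic {P : Type u} [Group P] [Fintype P] {p : ℕ} [Fact p.Prime] (hP : Nat.card P = p)
    {φ : P → ℂ} (hφ : IsCharacter P φ) {d : ℕ} (hd : φ 1 = d) (q : ℕ) :
    ((p : ℤ) * ((2 * q + 1) * d - p * q * (q + 1)) : ℝ) ≤ ∑ x : P, ‖φ x‖ ^ 2 := by
  classical
  have := Fintype.ofFinite (IrrCharacter P)
  have hcomm : ∀ a b : P, a * b = b * a := by
    haveI := isCyclic_of_prime_card hP
    exact fun a b => (IsCyclic.commGroup (α := P)).mul_comm a b
  have hconj : ∀ a b : P, IsConj a b ↔ a = b := fun a b => by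
    refine ⟨fun h => ?_, fun h => h ▸ IsConj.refl a⟩
    obtain ⟨c, hc⟩ := isConj_iff.1 h
    rw [← hc, hcomm c a, mul_inv_cancel_right]
  have hcardI : Fintype.card (IrrCharacter P) = p := by
    rw [← Nat.card_eq_fintype_card, Char.card_irr_eq_card_conjClasses]
    refine (Nat.card_congr (Equiv.ofBijective ConjClasses.mk ⟨fun a b h => ?_,
      ConjClasses.mk_surjective⟩)).symm.trans hP
    exact (hconj a b).1 (ConjClasses.mk_eq_mk_iff_isConj.1 h)
  have hlin : ∀ ψ : IrrCharacter P, (ψ : P → ℂ) 1 = 1 := by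
    intro ψ
    obtain ⟨e, he⟩ := Char.isCharacter_degree (Char.isCharacter_irr ψ)
    have hle := Char.degree_le_index (θ := (ψ : P → ℂ)) ψ.2 (⊤ : Subgroup P)
      (fun a _ b _ => hcomm a b) he
    have hne : e ≠ 0 := fun h => Char.irr_one_ne_zero ψ (by rw [he, h, Nat.cast_zero])
    rw [Subgroup.index_top] at hle
    rw [he, show e = 1 by omega, Nat.cast_one]
  choose m hm using fun ψ : IrrCharacter P => Char.classInner_char_irr_nat hφ ψ
  have hcf := Char.isClassFunction_of_isCharacter hφ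
  have hsum : d = ∑ ψ, m ψ := by
    have h := congrFun (Char.classFun_expand hcf) 1
    simp only [Finset.sum_apply, Pi.smul_apply, smul_eq_mul, hm, hlin, mul_one, hd] at h
    exact_mod_cast h
  have hnorm : ∑ x : P, ‖φ x‖ ^ 2 = (p : ℝ) * ∑ ψ, (m ψ : ℝ) ^ 2 := by
    have h1 := Char.classInner_self φ
    rw [Char.classInner_expand hcf] at h1
    simp only [hm, map_natCast] at h1
    have h2 : ((∑ ψ, (m ψ : ℝ) * (m ψ : ℝ) : ℝ) : ℂ) =
        (((Nat.card P : ℝ))⁻¹ * ∑ x : P, ‖φ x‖ ^ 2 : ℝ) := by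
      rw [← h1]; push_cast; ring_nf
    have h3 := Complex.ofReal_injective h2
    simp only [← sq] at h3
    rw [h3, hP, ← mul_assoc, mul_inv_cancel₀ (by exact_mod_cast (Fact.out : p.Prime).ne_zero), one_mul]
  rw [hnorm]
  have key : ∀ ψ, 0 ≤ ((m ψ : ℤ) - q) * ((m ψ : ℤ) - q - 1) := by
    intro ψ
    rcases le_or_gt (m ψ : ℤ) q with h | h
    · exact mul_nonneg_of_nonpos_of_nonpos (by omega) (by omega)
    · exact mul_nonneg (by omega) (by omega)
  have h4 : ((2 * q + 1) * d - p * q * (q + 1) : ℤ) ≤ ∑ ψ, (m ψ : ℤ) ^ 2 := by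
    have h5 := Finset.sum_nonneg fun ψ (_ : ψ ∈ (Finset.univ : Finset (IrrCharacter P))) => key ψ
    have e : ∀ ψ, ((m ψ : ℤ) - q) * ((m ψ : ℤ) - q - 1) =
        (m ψ : ℤ) ^ 2 - ((2 * q + 1) * (m ψ : ℤ) - q * (q + 1)) := fun ψ => by ring
    simp only [e, Finset.sum_sub_distrib, ← Finset.mul_sum, Finset.sum_const, Finset.card_univ, hcardI,
      nsmul_eq_mul] at h5
    have hsum' : (d : ℤ) = ∑ ψ, (m ψ : ℤ) := by exact_mod_cast hsum
    rw [hsum']
    linarith
  have h6 : (((2 * q + 1) * d - p * q * (q + 1) : ℤ) : ℝ) ≤ ((∑ ψ, (m ψ : ℤ) ^ 2 : ℤ) : ℝ) := by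
    exact_mod_cast h4
  push_cast at h6 ⊢
  exact mul_le_mul_of_nonneg_left h6 (Nat.cast_nonneg p)

/-- Elements of order `p`, when the Sylow `p`-subgroups have order `p`: the squared norms of a
character of degree `d` over them. -/
theorem norm_orderOf_le (χ : IrrCharacter G) {d : ℕ} (hd : (χ : G → ℂ) 1 = d) {p : ℕ} [hp : Fact p.Prime]
    (hp1 : p ∣ Nat.card G) (hp2 : ¬ p ^ 2 ∣ Nat.card G) [DecidableEq G] (q : ℕ) :
    (Nat.card (Sylow p G) : ℝ) * ((p : ℤ) * ((2 * q + 1) * d - p * q * (q + 1)) - (d : ℝ) ^ 2) ≤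
      ∑ x ∈ univ.filter (fun x : G => orderOf x = p), ‖(χ : G → ℂ) x‖ ^ 2 := by
  classical
  have hcardP : ∀ P : Sylow p G, Nat.card P = p := fun P => by
    rw [P.card_eq_multiplicity]
    have h1 : 1 ≤ (Nat.card G).factorization p :=
      (hp.out.dvd_iff_one_le_factorization Nat.card_pos.ne').1 hp1
    have h2 : ¬ 2 ≤ (Nat.card G).factorization p := fun h =>
      hp2 ((hp.out.pow_dvd_iff_le_factorization Nat.card_pos.ne').2 h)
    rw [show (Nat.card G).factorization p = 1 by omega, pow_one]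
  have := Fintype.ofFinite (Sylow p G)
  let S : Sylow p G → Finset G := fun P => univ.filter (fun x : G => x ∈ (P : Subgroup G) ∧ x ≠ 1)
  have hdisj : ∀ P Q : Sylow p G, ∀ x, x ∈ S P → x ∈ S Q → P = Q := by
    intro P Q x hx hy
    simp only [S, mem_filter, mem_univ, true_and] at hx hy
    refine Sylow.ext ?_
    have hcy : ∀ R : Sylow p G, x ∈ (R : Subgroup G) → (R : Subgroup G) = Subgroup.zpowers x := by
      intro R hR
      refine (Subgroup.eq_of_le_of_card_ge (Subgroup.zpowers_le.2 hR) ?_).symm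
      rw [Nat.card_zpowers, hcardP R]
      refine Nat.le_of_dvd (orderOf_pos x) ?_
      have := Subgroup.orderOf_dvd_natCard _ hR
      rw [hcardP R] at this
      rcases (Nat.dvd_prime hp.out).1 this with h | h
      · exact absurd (orderOf_eq_one_iff.1 h) hx.2
      · rw [h]
    rw [hcy P hx.1, hcy Q hy.1]
  have hun : univ.filter (fun x : G => orderOf x = p) = univ.biUnion S := by
    ext x
    simp only [mem_filter, mem_univ, true_and, mem_biUnion, S]
    constructor
    · intro hx
      obtain ⟨P, hP⟩ := (IsPGroup.of_card (n := 1) (G := Subgroup.zpowers x)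
        (by rw [Nat.card_zpowers, hx, pow_one])).exists_le_sylow
      exact ⟨P, hP (Subgroup.mem_zpowers x), fun h => by
        rw [h, orderOf_one] at hx; exact hp.out.one_lt.ne hx⟩
    · rintro ⟨P, hx, h1⟩
      have := Subgroup.orderOf_dvd_natCard _ hx
      rw [hcardP P] at this
      exact ((Nat.dvd_prime hp.out).1 this).resolve_left fun h => h1 (orderOf_eq_one_iff.1 h)
  rw [hun, Finset.sum_biUnion fun P _ Q _ hne => Finset.disjoint_left.2 fun x hx hy => hne (hdisj P Q x hx hy)]
  rw [Nat.card_eq_fintype_card, ← Finset.card_univ, ← nsmul_eq_mul]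
  refine Finset.card_nsmul_le_sum _ _ _ fun P _ => ?_
  have hres := Char.isCharacter_comp (Char.isCharacter_irr χ) ((P : Subgroup G).subtype)
  have h := norm_cyclic (hcardP P) hres (d := d) (by simpa using hd) q
  have hsplit : ∑ x : ↥(P : Subgroup G), ‖(χ : G → ℂ) x‖ ^ 2 =
      (d : ℝ) ^ 2 + ∑ x ∈ S P, ‖(χ : G → ℂ) x‖ ^ 2 := by
    rw [← Finset.sum_subtype (univ.filter fun x : G => x ∈ (P : Subgroup G)) (fun x => by simp)
      (fun x => ‖(χ : G → ℂ) x‖ ^ 2),
      ← Finset.add_sum_erase _ _ (show (1 : G) ∈ univ.filter (fun x : G => x ∈ (P : Subgroup G)) by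
        simp [one_mem]), hd]
    congr 1
    · simp
    · refine Finset.sum_congr ?_ fun _ _ => rfl
      ext x; simp [S, and_comm]
  simp only [Function.comp_apply, Subgroup.coe_subtype] at h
  linarith [h, hsplit]

/-- The total squared norm of an irreducible character. -/
theorem norm_total (χ : IrrCharacter G) :
    ∑ x : G, ‖(χ : G → ℂ) x‖ ^ 2 = (Nat.card G : ℝ) := by
  have h := Char.classInner_irr_self χ
  rw [Char.classInner_self, ← Complex.ofReal_one] at h
  have h' := Complex.ofReal_injective h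
  field_simp at h'
  linarith

end CfsgLib.Spor.OneBlock
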