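import Cfsg.Agent.Lib.Spor.AffineM24
import Cfsg.Agent.Lib.Spor.PointSubgroups
import Cfsg.Agent.Lib.Spor.OuterAut
import Cfsg.Agent.Lib.Spor.OneBlock.Norms
import Cfsg.Agent.Lib.Block.OneBlock
import Cfsg.Agent.Lib.Char.Integrality

/-!
# The Mathieu group of degree 22 has a single 2-block
-/

set_option autoImplicit false

namespace CfsgLib.Spor.OneBlock

open Cfsg CfsgLib.Spor Finset OuterAut
open scoped Pointwise

theorem ptwise_comm {o : Finset GolayPt} (ho : o ∈ octads) {a b : Equiv.Perm GolayPt}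
    (ha : a ∈ ptwise o) (hb : b ∈ ptwise o) : a * b = b * a := by
  have h := (ptwise_facts ho).2
  have inv : ∀ g ∈ ptwise o, g⁻¹ = g := fun g hg => inv_eq_of_mul_eq_one_right (h g hg)
  calc a * b = (a * b)⁻¹ := (inv _ (mul_mem ha hb)).symm
    _ = b⁻¹ * a⁻¹ := mul_inv_rev a b
    _ = b * a := by rw [inv a ha, inv b hb]

theorem mem_ptwise_of_commute {o : Finset GolayPt} (ho : o ∈ octads) {g : Equiv.Perm GolayPt}
    (hg : g ∈ M24) (hgo : g • o = o) (hc : ∀ u ∈ ptwise o, g * u = u * g) : g ∈ ptwise o := by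
  classical
  obtain ⟨hcard, -⟩ := ptwise_facts ho
  obtain ⟨p, hp⟩ : ∃ p, p ∉ o := by
    by_contra h
    push Not at h
    have h1 := ho.2
    rw [Finset.eq_univ_of_forall h, PointSub.card_univ_pts] at h1
    omega
  have := Fintype.ofFinite (ptwise o)
  let f : ptwise o → GolayPt := fun u => (u : Equiv.Perm GolayPt) p
  have hfi : Function.Injective f := by
    intro a b hab
    have h1 : ((b : Equiv.Perm GolayPt))⁻¹ * a = 1 := by
      refine ptwise_point_trivial ho hp (mul_mem (inv_mem b.2) a.2) ?_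
      rw [Equiv.Perm.mul_apply, show (a : Equiv.Perm GolayPt) p = (b : Equiv.Perm GolayPt) p from hab,
        Equiv.Perm.inv_def, Equiv.symm_apply_apply]
    exact Subtype.ext (inv_mul_eq_one.1 h1).symm
  have himg : Finset.univ.image f = oᶜ := by
    refine Finset.eq_of_subset_of_card_le (fun q hq => ?_) ?_
    · obtain ⟨u, -, rfl⟩ := Finset.mem_image.1 hq
      rw [Finset.mem_compl]
      intro hmem
      have := (mem_ptwise.1 u.2).2 _ hmem
      exact hp ((u : Equiv.Perm GolayPt).injective this ▸ hmem)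
    · rw [Finset.card_image_of_injective _ hfi, Finset.card_univ, ← Nat.card_eq_fintype_card, hcard,
        Finset.card_compl, ho.2, ← Finset.card_univ, PointSub.card_univ_pts]
  have hgp : g p ∉ o := fun h => hp (by
    rw [← hgo] at h
    obtain ⟨q, hq, e⟩ := Finset.mem_smul_finset.1 h
    exact g.injective e ▸ hq)
  obtain ⟨u, -, hu⟩ := Finset.mem_image.1 (show g p ∈ Finset.univ.image f by
    rw [himg]; exact Finset.mem_compl.2 hgp)
  set k : Equiv.Perm GolayPt := (u : Equiv.Perm GolayPt)⁻¹ * g with hk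
  have hkM : k ∈ M24 := mul_mem (inv_mem (mem_ptwise.1 u.2).1) hg
  have hkp : k p = p := by
    rw [hk, Equiv.Perm.mul_apply, ← hu, Equiv.Perm.inv_def, Equiv.symm_apply_apply]
  have hkfix : oᶜ ⊆ fixSet k := by
    intro q hq
    rw [← himg] at hq
    obtain ⟨v, -, rfl⟩ := Finset.mem_image.1 hq
    have hkv : k * v = v * k := by
      have e1 : Commute g (v : Equiv.Perm GolayPt) := hc v v.2
      have e2 : Commute (u : Equiv.Perm GolayPt) (v : Equiv.Perm GolayPt) := ptwise_comm ho u.2 v.2
      exact (e2.inv_left.mul_left e1).eq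
    rw [PointSub.mem_fixSet]
    show k ((v : Equiv.Perm GolayPt) p) = _
    rw [← Equiv.Perm.mul_apply, hkv, Equiv.Perm.mul_apply, hkp]
  have hk1 : k = 1 := by
    by_contra h
    have h1 := Finset.card_le_card hkfix
    rw [Finset.card_compl, ho.2, ← Finset.card_univ, PointSub.card_univ_pts] at h1
    have := PointSub.fix_le_eight hkM h
    omega
  rw [← inv_mul_eq_one.1 hk1]
  exact u.2

theorem mem22_two {g : Equiv.Perm GolayPt} (hg : g ∈ Spor.M22) :
    (none : GolayPt) ∈ fixSet g ∧ (some 0 : GolayPt) ∈ fixSet g := by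
  obtain ⟨-, h1, h2⟩ := mem_M22.1 hg
  exact ⟨PointSub.mem_fixSet.2 h1, PointSub.mem_fixSet.2 h2⟩

theorem smul_fixSet_of_commute {c z : Equiv.Perm GolayPt} (h : c * z = z * c) :
    c • fixSet z = fixSet z := by
  rw [← fixSet_conj, h, mul_inv_cancel_right]

theorem local_M22 (z : Spor.M22) (hz : orderOf z = 2) : ∃ Q : Subgroup Spor.M22, IsPGroup 2 Q ∧
    Q ≤ Subgroup.centralizer ({z} : Set Spor.M22) ∧
    Subgroup.centralizer ({z} : Set Spor.M22) ≤ Subgroup.normalizer (Q : Set Spor.M22) ∧
    ∀ c, Commute c z → (∀ u ∈ Q, Commute c u) → c ∈ Q := by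
  have hzM := (mem_M22.1 z.2).1
  have hz' : orderOf (z : Equiv.Perm GolayPt) = 2 := by rw [Subgroup.orderOf_coe]; exact hz
  set o := fixSet (z : Equiv.Perm GolayPt) with hodef
  have ho : o ∈ octads := by
    rcases two_fix hzM hz' with h | h
    · exact h
    · exact absurd (mem22_two z.2).1 (by rw [h]; simp)
  have hle : ptwise o ≤ Spor.M22 := fun g hg => by
    obtain ⟨hgM, hfix⟩ := mem_ptwise.1 hg
    exact mem_M22.2 ⟨hgM, hfix _ (mem22_two z.2).1, hfix _ (mem22_two z.2).2⟩
  have hzo : (z : Equiv.Perm GolayPt) ∈ ptwise o := mem_ptwise.2 ⟨hzM, fun p hp => PointSub.mem_fixSet.1 hp⟩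
  refine ⟨(ptwise o).subgroupOf Spor.M22, ?_, ?_, ?_, ?_⟩
  · refine IsPGroup.of_card (n := 4) ?_
    rw [Nat.card_congr (Subgroup.subgroupOfEquivOfLe hle).toEquiv, (ptwise_facts ho).1]
    norm_num
  · intro u hu
    rw [Subgroup.mem_centralizer_singleton_iff]
    exact Subtype.ext (ptwise_comm ho (Subgroup.mem_subgroupOf.1 hu) hzo)
  · intro c hc
    rw [Subgroup.mem_centralizer_singleton_iff] at hc
    have hco := smul_fixSet_of_commute (congrArg Subtype.val hc)
    rw [Subgroup.mem_normalizer_iff]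
    intro u
    simp only [SetLike.mem_coe, Subgroup.mem_subgroupOf, Subgroup.coe_mul, InvMemClass.coe_inv]
    have e := ptwise_smul (c : Equiv.Perm GolayPt) (mem_M22.1 c.2).1 o
    rw [hco] at e
    constructor
    · intro hu
      rw [e]
      exact ⟨u, hu, rfl⟩
    · intro hu
      rw [e] at hu
      obtain ⟨v, hv, hve⟩ := hu
      rwa [show (u : Equiv.Perm GolayPt) = v from ((MulAut.conj (c : Equiv.Perm GolayPt)).injective hve).symm]
  · intro c hcz hcQ
    rw [Subgroup.mem_subgroupOf]
    refine mem_ptwise_of_commute ho (mem_M22.1 c.2).1 (smul_fixSet_of_commute (congrArg Subtype.val hcz.eq))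
      fun u hu => ?_
    exact congrArg Subtype.val (hcQ ⟨u, hle hu⟩ (Subgroup.mem_subgroupOf.2 hu)).eq

/-! ### Sylow numbers -/

/-- The number of fixed points, in `M22`, of an element of prime order. -/
def fixNum (q : ℕ) : ℕ := if q = 2 then 8 else if q = 3 then 6 else 24 % q

theorem fix_eq {q : ℕ} [hq : Fact q.Prime] {x : Equiv.Perm GolayPt} (hx : x ∈ Spor.M22)
    (ho : orderOf x = q) : (fixSet x).card = fixNum q := by
  have hxM := (mem_M22.1 hx).1
  have h2 := mem22_two hx
  unfold fixNum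
  split_ifs with e2 e3
  · rcases two_fix hxM (e2 ▸ ho) with h | h
    · exact h.2
    · rw [h] at h2; simp at h2
  · rcases three_fix hxM (e3 ▸ ho) with h | h
    · exact h
    · rw [Finset.card_eq_zero] at h; rw [h] at h2; simp at h2
  · have h5 : 5 ≤ q := by
      have := hq.out.two_le
      have h4 : q ≠ 4 := fun e => absurd (e ▸ hq.out) (by norm_num)
      omega
    exact PointSub.fix_card h5 hxM ho

theorem prime_dvd_card22 {q : ℕ} (hq : q.Prime) (h : q ∣ 443520) : q ∈ [2, 3, 5, 7, 11] := by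
  have h' : q ∣ 2 ^ 7 * (3 ^ 2 * (5 * (7 * 11))) := h
  rcases hq.dvd_mul.1 h' with h' | h'
  · simp [(Nat.prime_dvd_prime_iff_eq hq Nat.prime_two).1 (hq.dvd_of_dvd_pow h')]
  rcases hq.dvd_mul.1 h' with h' | h'
  · simp [(Nat.prime_dvd_prime_iff_eq hq Nat.prime_three).1 (hq.dvd_of_dvd_pow h')]
  rcases hq.dvd_mul.1 h' with h' | h'
  · simp [(Nat.prime_dvd_prime_iff_eq hq (by norm_num)).1 h']
  rcases hq.dvd_mul.1 h' with h' | h'
  · simp [(Nat.prime_dvd_prime_iff_eq hq (by norm_num)).1 h']
  · simp [(Nat.prime_dvd_prime_iff_eq hq (by norm_num)).1 h']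

/-- Two commuting elements of different prime orders: no consistent fixed point numbers. -/
theorem fix_table : ∀ p ∈ [5, 7, 11], ∀ q ∈ [2, 3, 5, 7, 11], p = q ∨
    ∀ n ∈ List.range 9, ¬ (2 ≤ n ∧ n ≤ fixNum p ∧ n ≤ fixNum q ∧ fixNum p % q = n % q ∧ fixNum q % p = n % p) := by
  decide +kernel

theorem commute_prime_eq {p q : ℕ} [hp : Fact p.Prime] [hq : Fact q.Prime] (hp5 : p ∈ [5, 7, 11])
    (hq5 : q ∈ [2, 3, 5, 7, 11]) {x c : Equiv.Perm GolayPt} (hx : x ∈ Spor.M22) (hc : c ∈ Spor.M22)
    (hxo : orderOf x = p) (hco : orderOf c = q) (hcomm : c * x = x * c) : p = q := by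
  refine (fix_table p hp5 q hq5).resolve_right fun h => ?_
  set F := fixSet x ∩ fixSet c with hF
  have h1 := PointSub.card_modEq (PointSub.pow_orderOf_self hco) (fixSet x) fun r hr => by
    rw [PointSub.mem_fixSet] at hr ⊢
    rw [← Equiv.Perm.mul_apply, ← hcomm, Equiv.Perm.mul_apply, hr]
  have h2 := PointSub.card_modEq (PointSub.pow_orderOf_self hxo) (fixSet c) fun r hr => by
    rw [PointSub.mem_fixSet] at hr ⊢
    rw [← Equiv.Perm.mul_apply, hcomm, Equiv.Perm.mul_apply, hr]
  have e1 : PointSub.fixIn c (fixSet x) = F := by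
    ext r; simp [hF, PointSub.mem_fixIn, PointSub.mem_fixSet]
  have e2 : PointSub.fixIn x (fixSet c) = F := by
    ext r; simp [hF, PointSub.mem_fixIn, PointSub.mem_fixSet, and_comm]
  rw [e1, fix_eq hx hxo] at h1
  rw [e2, fix_eq hc hco] at h2
  have hle1 : F.card ≤ fixNum p := (fix_eq hx hxo) ▸ Finset.card_le_card Finset.inter_subset_left
  have hle2 : F.card ≤ fixNum q := (fix_eq hc hco) ▸ Finset.card_le_card Finset.inter_subset_right
  have hge : 2 ≤ F.card := by
    refine (show 2 = ({none, some 0} : Finset GolayPt).card by simp).le.trans (Finset.card_le_card ?_)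
    intro r hr
    simp only [Finset.mem_insert, Finset.mem_singleton] at hr
    rcases hr with rfl | rfl
    · exact Finset.mem_inter.2 ⟨(mem22_two hx).1, (mem22_two hc).1⟩
    · exact Finset.mem_inter.2 ⟨(mem22_two hx).2, (mem22_two hc).2⟩
  refine h F.card (List.mem_range.2 ?_) ⟨hge, hle1, hle2, h1, h2⟩
  have : fixNum p ≤ 8 := by fin_cases hp5 <;> decide
  omega

theorem centralizer_card {p : ℕ} [hp : Fact p.Prime] (hp5 : p ∈ [5, 7, 11]) {x : Spor.M22}
    (hx : orderOf x = p) : Nat.card (Subgroup.centralizer ({x} : Set Spor.M22)) = p := by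
  set C := Subgroup.centralizer ({x} : Set Spor.M22)
  have hpC : p ∣ Nat.card C := by
    rw [← hx]
    exact Subgroup.orderOf_dvd_natCard _ (Subgroup.mem_centralizer_singleton_iff.2 rfl)
  have hdvd : Nat.card C ∣ 443520 := card_M22 ▸ Subgroup.card_subgroup_dvd_card C
  have hpg : IsPGroup p C := IsPGroup.of_card (n := (Nat.card C).primeFactorsList.length) (by
    refine Nat.eq_prime_pow_of_unique_prime_dvd Nat.card_pos.ne' fun {q} hq hqC => ?_
    haveI := Fact.mk hq
    obtain ⟨c, hc⟩ := exists_prime_orderOf_dvd_card' q hqC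
    refine (commute_prime_eq hp5 (prime_dvd_card22 hq (hqC.trans hdvd)) x.2 (c : Spor.M22).2
      (by rw [Subgroup.orderOf_coe]; exact hx)
      (by rw [Subgroup.orderOf_coe, Subgroup.orderOf_coe]; exact hc) ?_).symm
    exact congrArg Subtype.val (Subgroup.mem_centralizer_singleton_iff.1 c.2))
  obtain ⟨n, hn⟩ := hpg.exists_card_eq
  rw [hn] at hdvd hpC ⊢
  have h1 : n ≠ 0 := fun h => by
    rw [h, pow_zero] at hpC
    exact hp.out.not_dvd_one hpC
  rcases Nat.lt_or_ge n 2 with h | h
  · rw [show n = 1 by omega, pow_one]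
  · exfalso
    have h2 := (pow_dvd_pow p h).trans hdvd
    fin_cases hp5 <;> norm_num at h2

theorem sylow_numbers {p : ℕ} [hp : Fact p.Prime] (hp5 : p ∈ [5, 7, 11]) :
    (p = 5 → Nat.card (Sylow p Spor.M22) = 22176) ∧ (p = 7 → Nat.card (Sylow p Spor.M22) = 21120) ∧
    (p = 11 → Nat.card (Sylow p Spor.M22) = 8064) := by
  let P : Sylow p Spor.M22 := Classical.arbitrary _
  have hcard : Nat.card P = p := by
    rw [P.card_eq_multiplicity, card_M22]
    fin_cases hp5 <;> simp [Nat.factorization_def, hp.out] <;> decide +kernel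
  haveI : IsCyclic (P : Subgroup Spor.M22) := isCyclic_of_prime_card hcard
  obtain ⟨x, hx⟩ := IsCyclic.exists_generator (α := (P : Subgroup Spor.M22))
  have hxo : orderOf (x : Spor.M22) = p := by
    rw [Subgroup.orderOf_coe, orderOf_eq_card_of_forall_mem_zpowers hx, hcard]
  set N := Subgroup.normalizer ((P : Subgroup Spor.M22) : Set Spor.M22)
  have hN : Nat.card N ∣ p * (p - 1) := by
    let φ := (P : Subgroup Spor.M22).normalizerMonoidHom
    have h1 := Subgroup.card_mul_index φ.ker
    rw [Subgroup.index_ker] at h1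
    rw [← h1]
    refine mul_dvd_mul ?_ ?_
    · rw [Subgroup.normalizerMonoidHom_ker]
      refine dvd_of_eq (Eq.trans ?_ (centralizer_card hp5 hxo))
      refine (Nat.card_congr ((Subgroup.subgroupOfEquivOfLe ?_).toEquiv.trans (Equiv.setCongr ?_)))
      · exact Subgroup.centralizer_le_normalizer _
      · congr 1
        ext y
        rw [Subgroup.mem_centralizer_iff, Subgroup.mem_centralizer_singleton_iff]
        constructor
        · intro h; exact (h x x.2).symm
        · intro h u hu
          obtain ⟨n, hn⟩ := Subgroup.mem_zpowers_iff.1 (hx ⟨u, hu⟩)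
          have e : ((x : Spor.M22)) ^ n = u := congrArg Subtype.val hn
          rw [← e]
          exact ((show Commute y (x : Spor.M22) from h).zpow_right n).eq.symm
    · refine (Subgroup.card_subgroup_dvd_card φ.range).trans (dvd_of_eq ?_)
      rw [IsCyclic.card_mulAut, hcard, Nat.totient_prime hp.out]
  have hindex : Nat.card (Sylow p Spor.M22) * Nat.card N = 443520 := by
    rw [P.card_eq_index_normalizer]; exact (Subgroup.index_mul_card N).trans card_M22
  have hmod := card_sylow_modEq_one p Spor.M22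
  have hNmem : Nat.card N ∈ Nat.divisors (p * (p - 1)) :=
    Nat.mem_divisors.2 ⟨hN, Nat.mul_ne_zero hp.out.ne_zero (by have := hp.out.two_le; omega)⟩
  have hpN : p ∣ Nat.card N := hcard ▸ Subgroup.card_dvd_of_le Subgroup.le_normalizer
  unfold Nat.ModEq at hmod
  refine ⟨?_, ?_, ?_⟩ <;> intro he <;> subst he
  · rw [show Nat.divisors (5 * (5 - 1)) = {1, 2, 4, 5, 10, 20} by decide +kernel] at hNmem
    simp only [Finset.mem_insert, Finset.mem_singleton] at hNmem
    rcases hNmem with e | e | e | e | e | e <;> rw [e] at hindex hpN <;> omega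
  · rw [show Nat.divisors (7 * (7 - 1)) = {1, 2, 3, 6, 7, 14, 21, 42} by decide +kernel] at hNmem
    simp only [Finset.mem_insert, Finset.mem_singleton] at hNmem
    rcases hNmem with e | e | e | e | e | e | e | e <;> rw [e] at hindex hpN <;> omega
  · rw [show Nat.divisors (11 * (11 - 1)) = {1, 2, 5, 10, 11, 22, 55, 110} by decide +kernel] at hNmem
    simp only [Finset.mem_insert, Finset.mem_singleton] at hNmem
    rcases hNmem with e | e | e | e | e | e | e | e <;> rw [e] at hindex hpN <;> omega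

/-! ### No character of defect zero -/

theorem no_defect_zero (χ : IrrCharacter Spor.M22) :
    ¬ 2 ^ (Nat.card Spor.M22).factorization 2 ∣ charDegree (χ : Spor.M22 → ℂ) := by
  classical
  intro hdvd
  obtain ⟨d, hd⟩ := Char.isCharacter_degree (Char.isCharacter_irr χ)
  have hdeg : charDegree (χ : Spor.M22 → ℂ) = d := by simp [charDegree, hd]
  have h7 : (Nat.card Spor.M22).factorization 2 = 7 := by
    rw [card_M22, Nat.factorization_def _ Nat.prime_two]
    decide +kernel
  rw [h7, hdeg] at hdvd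
  have hdG : d ∣ 443520 := card_M22 ▸ Char.degree_dvd_card χ hd
  have tot := norm_total χ
  rw [card_M22] at tot
  push_cast at tot
  let A : ℕ → Finset Spor.M22 := fun p => univ.filter fun x => orderOf x = p
  let nrm : Finset Spor.M22 → ℝ := fun S => ∑ x ∈ S, ‖(χ : Spor.M22 → ℂ) x‖ ^ 2
  have hdisj : ∀ a b : ℕ, a ≠ b → Disjoint (A a) (A b) := fun a b h =>
    Finset.disjoint_left.2 fun x ha hb => h (by
      simp only [A, mem_filter, mem_univ, true_and] at ha hb; omega)
  set T := (({1} : Finset Spor.M22) ∪ A 5) ∪ A 7 ∪ A 11 with hT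
  have hsum : nrm T = (d : ℝ) ^ 2 + nrm (A 5) + nrm (A 7) + nrm (A 11) := by
    have e1 : (({1} : Finset Spor.M22)) = A 1 := by ext x; simp [A, orderOf_eq_one_iff]
    simp only [nrm, hT]
    rw [Finset.sum_union, Finset.sum_union, Finset.sum_union, Finset.sum_singleton, hd]
    · simp
    · rw [e1]; exact hdisj 1 5 (by norm_num)
    · rw [e1]; exact Finset.disjoint_union_left.2 ⟨hdisj 1 7 (by norm_num), hdisj 5 7 (by norm_num)⟩
    · rw [e1]
      exact Finset.disjoint_union_left.2 ⟨Finset.disjoint_union_left.2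
        ⟨hdisj 1 11 (by norm_num), hdisj 5 11 (by norm_num)⟩, hdisj 7 11 (by norm_num)⟩
  have hle : nrm T ≤ 443520 := tot ▸ Finset.sum_le_univ_sum_of_nonneg fun x => sq_nonneg _
  have hsq : (d : ℝ) ^ 2 ≤ 443520 := by
    have h1 : 0 ≤ nrm (A 5) := Finset.sum_nonneg fun x _ => sq_nonneg _
    have h2 : 0 ≤ nrm (A 7) := Finset.sum_nonneg fun x _ => sq_nonneg _
    have h3 : 0 ≤ nrm (A 11) := Finset.sum_nonneg fun x _ => sq_nonneg _
    linarith
  obtain ⟨k, hk⟩ := hdvd
  have hk5 : k ≤ 5 := by
    by_contra h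
    have hbig : 768 ≤ d := by omega
    have : (768 : ℝ) ≤ d := by exact_mod_cast hbig
    nlinarith
  haveI h5f : Fact (Nat.Prime 5) := ⟨by norm_num⟩
  haveI h7f : Fact (Nat.Prime 7) := ⟨by norm_num⟩
  haveI h11f : Fact (Nat.Prime 11) := ⟨by norm_num⟩
  have b5 := fun q => norm_orderOf_le χ hd (p := 5) (by rw [card_M22]; norm_num) (by rw [card_M22]; norm_num) q
  have b7 := fun q => norm_orderOf_le χ hd (p := 7) (by rw [card_M22]; norm_num) (by rw [card_M22]; norm_num) q
  have b11 := fun q => norm_orderOf_le χ hd (p := 11) (by rw [card_M22]; norm_num) (by rw [card_M22]; norm_num) q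
  simp only [(sylow_numbers (p := 5) (by simp)).1 rfl] at b5
  simp only [(sylow_numbers (p := 7) (by simp)).2.1 rfl] at b7
  simp only [(sylow_numbers (p := 11) (by simp)).2.2 rfl] at b11
  have B5 := b5 (d / 5)
  have B7 := b7 (d / 7)
  have B11 := b11 (d / 11)
  have hk0 : k ≠ 0 := fun h => Char.irr_one_ne_zero χ (by rw [hd, hk, h]; simp)
  rcases (show k = 1 ∨ k = 2 ∨ k = 3 ∨ k = 4 ∨ k = 5 by omega) with h | h | h | h | h <;>
    subst h <;> subst hk
  · norm_num at B5 B7 B11 hsum hle; simp only [A, nrm] at *; linarith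
  · norm_num at hdG
  · -- degree 384: the bound is attained, so `χ` vanishes elsewhere
    norm_num at B5 B7 B11 hsum hle hd
    have hz : ∀ x, x ∉ T → (χ : Spor.M22 → ℂ) x = 0 := by
      intro x hx
      have h1 : nrm (insert x T) ≤ 443520 := tot ▸ Finset.sum_le_univ_sum_of_nonneg fun x => sq_nonneg _
      simp only [nrm] at h1 hsum hle
      rw [Finset.sum_insert hx] at h1
      have h2 : ‖(χ : Spor.M22 → ℂ) x‖ ^ 2 = 0 :=
        le_antisymm (by simp only [A] at *; linarith) (sq_nonneg _)
      exact norm_eq_zero.1 (pow_eq_zero_iff (two_ne_zero) |>.1 h2)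
    haveI : Fact (Nat.Prime 3) := ⟨Nat.prime_three⟩
    let P : Sylow 3 Spor.M22 := Classical.arbitrary _
    have hcard : Nat.card P = 9 := by
      rw [P.card_eq_multiplicity, card_M22, Nat.factorization_def _ Nat.prime_three]
      decide +kernel
    have hv : ∀ y : (P : Subgroup Spor.M22), y ≠ 1 → (χ : Spor.M22 → ℂ) y = 0 := by
      intro y hy
      apply hz
      have h9 : orderOf (y : Spor.M22) ∣ 9 := hcard ▸ Subgroup.orderOf_dvd_natCard _ y.2
      intro hyT
      simp only [hT, A, mem_union, mem_singleton, mem_filter, mem_univ, true_and] at hyT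
      rcases hyT with ((h | h) | h) | h
      · exact hy (Subtype.ext h)
      all_goals rw [h] at h9; norm_num at h9
    obtain ⟨m, hm⟩ := Char.classInner_isCharacter
      (Char.isCharacter_comp (Char.isCharacter_irr χ) ((P : Subgroup Spor.M22).subtype))
      (Char.isCharacter_of_isIrr Char.isIrrCharacter_one)
    rw [classInner, Finset.sum_eq_single (1 : (P : Subgroup Spor.M22))] at hm
    · simp only [hcard, Function.comp_apply, map_one, mul_one] at hm
      rw [hd] at hm
      have h' : (384 : ℂ) = ((9 * m : ℕ) : ℂ) := by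
        push_cast
        rw [← hm]; push_cast; ring
      have : 384 = 9 * m := by exact_mod_cast h'
      omega
    · intro y _ hy
      simp [hv y hy]
    · simp
  · norm_num at hdG
  · norm_num at B5 B7 B11 hsum hle; simp only [A, nrm] at *; linarith

theorem sameBlock_M22 (M : Ideal AlgInt) (hM : IsPModular 2 M) (χ ψ : IrrCharacter Spor.M22) :
    SameBlock M (χ : Spor.M22 → ℂ) (ψ : Spor.M22 → ℂ) := by
  classical
  haveI := hM.2.1
  letI : Fintype Spor.M22 := Fintype.ofFinite _
  exact Block.OneBlock.sameBlock_of_local hM local_M22 no_defect_zero χ ψ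

end CfsgLib.Spor.OneBlock
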