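import Cfsg.Agent.Lib.Spor.InvolutionCentralizer
import Cfsg.Agent.Lib.Spor.OneBlock.MTwentyTwo

/-!
# The kernel of the centralizer of a fixed point free involution of `M24` on its sextet
-/

set_option autoImplicit false

namespace CfsgLib.Spor.OneBlock

open Cfsg CfsgLib.Spor
open scoped Pointwise

/-- The masks of the six tetrads. -/
def tetrads : List ℕ := famList 6 freeInvSextet

/-- The code fixes each tetrad. -/
def keepsEach (c : ℕ) : Bool := tetrads.all fun m => permMask c m == m

/-- The tetrad through the last index. -/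
def lastTetrad : ℕ := (tetrads.filter fun m => m.testBit 23).headD 0

/-- The elements of the centralizer fixing each tetrad. -/
def kernelList : List ℕ :=
  (((List.range 24).filter fun i => lastTetrad.testBit i).flatMap fun i =>
    freeCentList.map (permMulCode (freeInvMove.getD i 0))).filter keepsEach

/-- The code fixes every point of the mask. -/
def fixesMask (c m : ℕ) : Bool := (List.range 24).all fun i => !m.testBit i || (permFn c i == i)

theorem kernel_check : (lastTetrad.testBit 23 && (tetrads.contains lastTetrad &&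
    ((tetrads.all fun m => decide (m < 2 ^ 24)) && ((kernelList.all sqCode) &&
    (tetrads.all fun m => tetrads.all fun n => (m == n) ||
      kernelList.any fun c => fixesMask c m && !fixesMask c n))))) = true := by decide +kernel

/-- The elements of `freeCent` fixing each tetrad. -/
def freeKernel : Subgroup (Equiv.Perm GolayPt) where
  carrier := {g | g ∈ freeCent ∧ ∀ m ∈ tetrads, g • pts m = pts m}
  mul_mem' := fun ha hb => ⟨mul_mem ha.1 hb.1, fun m hm => by rw [mul_smul, hb.2 m hm, ha.2 m hm]⟩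
  one_mem' := ⟨one_mem _, fun m _ => one_smul _ _⟩
  inv_mem' := fun ha => ⟨inv_mem ha.1, fun m hm => inv_smul_eq_iff.2 (ha.2 m hm).symm⟩

theorem mem_freeKernel {g : Equiv.Perm GolayPt} :
    g ∈ freeKernel ↔ g ∈ freeCent ∧ ∀ m ∈ tetrads, g • pts m = pts m := Iff.rfl

theorem exists_kernel_code {g : Equiv.Perm GolayPt} (hg : g ∈ freeKernel) :
    ∃ c ∈ kernelList, isPermCode c = true ∧ permOf c = g := by
  have hk := kernel_check
  simp only [Bool.and_eq_true, List.all_eq_true, List.contains_iff_mem, decide_eq_true_eq] at hk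
  obtain ⟨h23, hmem, hlt, -, -⟩ := hk
  obtain ⟨hgC, hgfix⟩ := mem_freeKernel.1 hg
  set i := ptIdx (g (idxPt 23)) with hi_def
  have hi : i < 24 := ptIdx_lt _
  have hiT : lastTetrad.testBit i = true := by
    have h1 : g (idxPt 23) ∈ pts lastTetrad := by
      rw [← hgfix _ hmem]
      exact Finset.smul_mem_smul_finset (a := g) ((idxPt_mem_pts (by norm_num)).2 h23)
    exact mem_pts.1 h1
  obtain ⟨hall, hmoves⟩ := freeInvMove_facts
  have h' := List.all_eq_true.1 hmoves i (List.mem_range.2 hi)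
  simp only [Bool.and_eq_true, beq_iff_eq] at h'
  have hlen : i < freeInvMove.length := hi
  have hM : isM24Code (freeInvMove.getD i 0) = true := by
    rw [List.getD_eq_getElem _ _ hlen]; exact List.all_eq_true.1 hall _ (List.getElem_mem hlen)
  have hp := isPermCode_of_isM24Code hM
  set a := permOf (freeInvMove.getD i 0) with ha
  have haC : a ∈ freeCent := mem_freeCent.2 ⟨permOf_mem_M24 hM,
    eq_mul_of_commCodes hp (isPermCode_of_isM24Code freeInv_facts.1) h'.2.1⟩
  have hga : (a⁻¹ * g) ∈ freeCent := mul_mem (inv_mem haC) hgC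
  have h23' : (a⁻¹ * g) (idxPt 23) = idxPt 23 := by
    rw [Equiv.Perm.mul_apply, Equiv.Perm.inv_eq_iff_eq, ha, permOf_idxPt hp (by norm_num), h'.1,
      hi_def, idxPt_ptIdx]
  obtain ⟨c, hc, ec⟩ := mem_freeCentList (mem_freeCent.1 hga).1 (mem_freeCent.1 hga).2 h23'
  have hcp := isPermCode_chainCands okFree 7 c (List.mem_filter.1 hc).1
  have hmc := isPermCode_permMulCode hp hcp
  have e : permOf (permMulCode (freeInvMove.getD i 0) c) = g := by
    rw [← permOf_permMulCode hp hcp hmc rfl, ec, ← ha, mul_inv_cancel_left]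
  refine ⟨_, List.mem_filter.2 ⟨List.mem_flatMap.2 ⟨i, List.mem_filter.2 ⟨List.mem_range.2 hi, hiT⟩,
    List.mem_map.2 ⟨c, hc, rfl⟩⟩, List.all_eq_true.2 fun m hm => ?_⟩, hmc, e⟩
  rw [beq_iff_eq]
  refine eq_of_pts_eq (permMask_lt hmc m) (hlt m hm) ?_
  rw [← smul_pts hmc m, e]
  exact hgfix m hm

theorem sq_freeKernel {g : Equiv.Perm GolayPt} (hg : g ∈ freeKernel) : g * g = 1 := by
  have hk := kernel_check
  simp only [Bool.and_eq_true, List.all_eq_true] at hk
  obtain ⟨c, hc, hp, rfl⟩ := exists_kernel_code hg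
  exact eq_one_of_sqCode hp (hk.2.2.2.1 c hc)

theorem mem_freeKernel_of_code {c : ℕ} (hc : c ∈ kernelList) :
    isPermCode c = true ∧ permOf c ∈ freeKernel := by
  obtain ⟨hc1, hc2⟩ := List.mem_filter.1 hc
  obtain ⟨i, hi, hc1⟩ := List.mem_flatMap.1 hc1
  obtain ⟨e, he, rfl⟩ := List.mem_map.1 hc1
  rw [List.mem_filter, List.mem_range] at hi
  obtain ⟨hall, hmoves⟩ := freeInvMove_facts
  have h' := List.all_eq_true.1 hmoves i (List.mem_range.2 hi.1)
  simp only [Bool.and_eq_true, beq_iff_eq] at h'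
  have hlen : i < freeInvMove.length := hi.1
  have hM : isM24Code (freeInvMove.getD i 0) = true := by
    rw [List.getD_eq_getElem _ _ hlen]; exact List.all_eq_true.1 hall _ (List.getElem_mem hlen)
  have hp := isPermCode_of_isM24Code hM
  obtain ⟨he1, he2⟩ := List.mem_filter.1 he
  have hep := isPermCode_chainCands okFree 7 e he1
  have hmc := isPermCode_permMulCode hp hep
  have ht := isPermCode_of_isM24Code freeInv_facts.1
  refine ⟨hmc, mem_freeKernel.2 ⟨?_, fun m hm => ?_⟩⟩
  · rw [← permOf_permMulCode hp hep hmc rfl]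
    exact mul_mem (mem_freeCent.2 ⟨permOf_mem_M24 hM, eq_mul_of_commCodes hp ht h'.2.1⟩)
      (mem_freeCent.2 ⟨permOf_chainCands_mem okFree 7 e he1, eq_mul_of_commCodes hep ht he2⟩)
  · rw [smul_pts hmc]
    have := List.all_eq_true.1 hc2 m hm
    rw [beq_iff_eq] at this
    rw [this]

theorem exists_tetrad {g : Equiv.Perm GolayPt} (hg : g ∈ freeCent) {m : ℕ} (hm : m ∈ tetrads) :
    ∃ n ∈ tetrads, g • pts m = pts n := by
  have h : g • pts m ∈ famSet 6 freeInvSextet := by
    rw [← freeCent_sextet hg]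
    exact Finset.smul_mem_smul_finset (a := g) (mem_famSet.2 ⟨m, hm, rfl⟩)
  obtain ⟨n, hn, e⟩ := mem_famSet.1 h
  exact ⟨n, hn, e.symm⟩

theorem freeKernel_normal {g u : Equiv.Perm GolayPt} (hg : g ∈ freeCent) (hu : u ∈ freeKernel) :
    g * u * g⁻¹ ∈ freeKernel := by
  refine mem_freeKernel.2 ⟨mul_mem (mul_mem hg (mem_freeKernel.1 hu).1) (inv_mem hg), fun m hm => ?_⟩
  obtain ⟨n, hn, e⟩ := exists_tetrad (inv_mem hg) hm
  rw [mul_smul, mul_smul, e, (mem_freeKernel.1 hu).2 n hn, ← e, smul_inv_smul]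

theorem freeKernel_self_centralizing {g : Equiv.Perm GolayPt} (hg : g ∈ freeCent)
    (hc : ∀ u ∈ freeKernel, g * u = u * g) : g ∈ freeKernel := by
  refine mem_freeKernel.2 ⟨hg, fun m hm => ?_⟩
  obtain ⟨n, hn, e⟩ := exists_tetrad hg hm
  have hk := kernel_check
  simp only [Bool.and_eq_true, List.all_eq_true, Bool.or_eq_true, beq_iff_eq, List.any_eq_true] at hk
  rcases hk.2.2.2.2 m hm n hn with h | ⟨c, hcm, hfm, hfn⟩
  · rw [e, h]
  exfalso
  obtain ⟨hp, hcK⟩ := mem_freeKernel_of_code hcm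
  simp only [fixesMask, Bool.not_eq_true', List.all_eq_false, List.mem_range, Bool.or_eq_true,
    beq_iff_eq, not_or, Bool.not_eq_false, List.all_eq_true] at hfn hfm
  obtain ⟨i, hi, hin, hne⟩ := hfn
  refine hne ?_
  have h1 : idxPt i ∈ g • pts m := by rw [e]; exact (idxPt_mem_pts hi).2 hin
  obtain ⟨q, hq, eq⟩ := Finset.mem_smul_finset.1 h1
  have hfix : permOf c q = q := by
    rw [permOf_apply hp]
    rcases hfm (ptIdx q) (ptIdx_lt q) with h | h
    · rw [mem_pts.1 hq] at h; simp at h
    · rw [h, idxPt_ptIdx]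
  have h2 : permOf c (idxPt i) = idxPt i := by
    rw [← eq]
    show permOf c (g q) = g q
    rw [← Equiv.Perm.mul_apply, ← hc _ hcK, Equiv.Perm.mul_apply, hfix]
  rw [permOf_idxPt hp hi] at h2
  have := congrArg ptIdx h2
  rwa [ptIdx_idxPt _ (permFn_lt hp hi), ptIdx_idxPt _ hi] at this

end CfsgLib.Spor.OneBlock
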